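import Cfsg.Agent.H359.CT.McLSrg
import Cfsg.Agent.H447.CTabDouble
import Cfsg.Agent.H34.TI.Defs

/-!
# The characters of the McLaughlin group

Generated: the 12 rational characters and the 6 sums of complex conjugate pairs, starting from the character of degree 22 of the
rank 3 action; `m` = product, `lambda2`, `lambda3` = exterior powers, `adams` = power maps.
-/

set_option autoImplicit false
set_option maxRecDepth 100000

namespace Cfsg.Agent.H359.CT.McL

open Cfsg Equiv Subgroup Cfsg.Agent.H359.CT Cfsg.Agent.H447.CTab Cfsg.Agent.McLType.Gens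

universe u

def l1 : List ℤ := [1, 1, 1, 1, 1, 1, 1, 1, 1, 1, 1, 1, 1, 1, 1, 1, 1, 1]
def l231 : List ℤ := [231, 7, 15, 6, -1, 6, 1, 7, -2, 0, -1, 0, 2, 0, -1, 0, 0, 2]
def l252 : List ℤ := [252, 28, 9, 9, 4, 2, 2, 1, 1, 0, 0, 0, -2, -1, 1, 0, -1, 1]
def l1750 : List ℤ := [1750, 70, -5, 13, 2, 0, 0, -5, 1, 0, 0, -2, 0, 1, -1, 0, 0, 0]
def l3520 : List ℤ := [3520, 64, -44, 10, 0, -5, 0, 4, -2, -1, 0, 1, -1, 0, 0, 1, 1, -1]
def l4500 : List ℤ := [4500, 20, 45, -9, 4, 0, 0, 5, -1, -1, 0, 0, 0, 1, 1, -1, 0, 0]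
def l5103 : List ℤ := [5103, 63, 0, 0, 3, 3, -2, 0, 0, 0, 1, 0, 3, -1, 0, 0, 0, 0]
def l5544 : List ℤ := [5544, -56, 36, 9, 0, 19, -1, 4, 1, 0, 0, 0, -1, 0, 0, 0, 1, -1]
def l9625 : List ℤ := [9625, 105, 40, -5, -3, 0, 0, 0, 3, 0, -1, 1, 0, 0, 0, 0, 0, 0]
def l3520b : List ℤ := [3520, -64, -44, 10, 0, -5, 0, -4, 2, -1, 0, 1, 1, 0, 0, -1, 1, 1]
def l4752 : List ℤ := [4752, -48, 54, 0, 0, 2, 2, -6, 0, -1, 0, 0, 2, 0, 0, 1, -1, -1]
def l1540 : List ℤ := [1540, -28, -26, 10, -4, -10, 0, 14, 2, 0, 0, -2, 2, 0, 2, 0, -1, -1]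
def l1792 : List ℤ := [1792, 0, 64, -8, 0, -8, 2, 0, 0, 0, 0, -2, 0, -1, 0, 0, 4, 0]
def l16038 : List ℤ := [16038, -90, 0, 0, 6, -12, -2, 0, 0, 1, -2, 0, 0, 0, 0, 1, 0, 0]
def l16500 : List ℤ := [16500, 20, 30, 12, -4, 0, 0, -10, -4, 1, 0, 0, 0, 0, 2, -1, 0, 0]
def l19712 : List ℤ := [19712, 0, -160, -16, 0, 12, 2, 0, 0, 0, 0, -1, 0, 0, 0, 0, 0, 0]
def l20790 : List ℤ := [20790, -42, 54, 0, -2, -10, 0, 6, 0, 0, 2, 0, -2, 0, -2, 0, -1, 1]

section

variable {G : Type u} [Group G] [Finite G] (e : G ≃* ↥K0)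

theorem g1 : GC (clT e) rc (vec l1) := GC.one.congr (by decide +kernel)

def x_l2_22 : List ℤ := [231, 7, 15, 6, -1, 6, 1, 7, -2, 0, -1, 0, 2, 0, -1, 0, 0, 2]
theorem gx_l2_22 : GC (clT e) rc (vec x_l2_22) := (g22 e).lambda2 pw2 (p2 e) (by decide +kernel)

theorem g231 : GC (clT e) rc (vec l231) :=
  ((gx_l2_22 e).zsmul (1)).congr (by decide +kernel)

def x_l3_22 : List ℤ := [1540, -28, -26, 10, -4, -10, 0, 14, 2, 0, 0, -2, 2, 0, 2, 0, -1, -1]
theorem gx_l3_22 : GC (clT e) rc (vec x_l3_22) := (g22 e).lambda3 pw2 pw3 (p2 e) (p3 e) (by decide +kernel)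

theorem g1540 : GC (clT e) rc (vec l1540) :=
  ((gx_l3_22 e).zsmul (1)).congr (by decide +kernel)

theorem g252 : GC (clT e) rc (vec l252) :=
  ((((gx_l2_22 e).zsmul (-1)).add (((g22 e).mul (g22 e)).zsmul (1))).add ((g1 e).zsmul (-1))).congr (by decide +kernel)

theorem g3520 : GC (clT e) rc (vec l3520) :=
  (((((g22 e).mul (g231 e)).zsmul (1)).add ((g22 e).zsmul (-1))).add ((g1540 e).zsmul (-1))).congr (by decide +kernel)

theorem g1750 : GC (clT e) rc (vec l1750) :=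
  ((((((g22 e).mul (g231 e)).zsmul (-1)).add (((g22 e).mul (g252 e)).zsmul (1))).add ((g252 e).zsmul (-1))).add ((g1540 e).zsmul (1))).congr (by decide +kernel)

def x_l2_231 : List ℤ := [26565, -91, 105, 15, -3, 15, 0, 17, -1, 0, 1, 0, -1, 0, -3, 0, 0, 2]
theorem gx_l2_231 : GC (clT e) rc (vec x_l2_231) := (g231 e).lambda2 pw2 (p2 e) (by decide +kernel)

theorem g5544 : GC (clT e) rc (vec l5544) :=
  (((((gx_l2_231 e).zsmul (-1)).add (((g22 e).mul (g1540 e)).zsmul (1))).add ((g231 e).zsmul (-1))).add ((g1540 e).zsmul (-1))).congr (by decide +kernel)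

theorem g20790 : GC (clT e) rc (vec l20790) :=
  ((((((g22 e).mul (g1540 e)).zsmul (-1)).add (((g231 e).adams 2 pw2 (p2 e)).zsmul (-1))).add (((g231 e).mul (g231 e)).zsmul (1))).add ((g1540 e).zsmul (1))).congr (by decide +kernel)

def x_l2_252 : List ℤ := [31626, 266, 36, 36, -6, 1, 1, -4, -4, 0, -2, 0, 1, 1, 0, 0, 1, 1]
theorem gx_l2_252 : GC (clT e) rc (vec x_l2_252) := (g252 e).lambda2 pw2 (p2 e) (by decide +kernel)

theorem g5103 : GC (clT e) rc (vec l5103) :=
  ((((((((((((g22 e).mul (g231 e)).zsmul (-1)).add (((g22 e).mul (g252 e)).zsmul (-1))).add (((g22 e).adams 3 pw3 (p3 e)).zsmul (-1))).add (((g22 e).mul (g1540 e)).zsmul (1))).add ((gx_l2_252 e).zsmul (-1))).add (((g231 e).mul (g231 e)).zsmul (-1))).add (((g252 e).mul (g252 e)).zsmul (1))).add ((g22 e).zsmul (1))).add ((g252 e).zsmul (1))).add ((g1540 e).zsmul (2))).congr (by decide +kernel)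

def x_l2_1540 : List ℤ := [1185030, -378, 351, 45, 22, 55, 0, 111, -3, 0, 2, 3, 7, 0, -5, 0, 1, 1]
theorem gx_l2_1540 : GC (clT e) rc (vec x_l2_1540) := (g1540 e).lambda2 pw2 (p2 e) (by decide +kernel)

def x_l3_231 : List ℤ := [2027795, -749, 527, 95, 3, 20, 0, 7, 7, 0, -1, 5, -4, 0, 3, 0, 2, 2]
theorem gx_l3_231 : GC (clT e) rc (vec x_l3_231) := (g231 e).lambda3 pw2 pw3 (p2 e) (p3 e) (by decide +kernel)

def x_l3_252 : List ℤ := [2635500, 140, 165, 165, -44, 0, 0, 5, 5, 0, 0, 3, 0, -1, 1, 0, 0, 0]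
theorem gx_l3_252 : GC (clT e) rc (vec x_l3_252) := (g252 e).lambda3 pw2 pw3 (p2 e) (p3 e) (by decide +kernel)

theorem g1792 : GC (clT e) rc (vec l1792) :=
  (((((((((((((((((((((((g22 e).mul (g252 e)).zsmul (-3)).add (((g22 e).adams 3 pw3 (p3 e)).zsmul (-3))).add ((gx_l2_231 e).zsmul (1))).add (((g22 e).mul (g1540 e)).zsmul (3))).add (((g231 e).adams 2 pw2 (p2 e)).zsmul (-2))).add ((gx_l2_252 e).zsmul (-1))).add (((g252 e).adams 2 pw2 (p2 e)).zsmul (2))).add (((g22 e).adams 5 pw5 (p5 e)).zsmul (-1))).add (((g252 e).mul (g252 e)).zsmul (2))).add (((g231 e).adams 3 pw3 (p3 e)).zsmul (-1))).add (((g1540 e).adams 2 pw2 (p2 e)).zsmul (1))).add (((g231 e).mul (g1540 e)).zsmul (1))).add (((g252 e).mul (g1540 e)).zsmul (1))).add (((g231 e).adams 5 pw5 (p5 e)).zsmul (-1))).add (((g252 e).adams 5 pw5 (p5 e)).zsmul (1))).add ((gx_l2_1540 e).zsmul (-2))).add ((gx_l3_231 e).zsmul (2))).add ((gx_l3_252 e).zsmul (-1))).add ((g22 e).zsmul (4))).add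 ((g231 e).zsmul (5))).add ((g1540 e).zsmul (-1))).congr (by decide +kernel)

theorem g19712 : GC (clT e) rc (vec l19712) :=
  (((((((((((((((((((((g22 e).mul (g252 e)).zsmul (-2)).add (((g22 e).adams 3 pw3 (p3 e)).zsmul (-2))).add ((gx_l2_231 e).zsmul (1))).add (((g22 e).mul (g1540 e)).zsmul (-2))).add (((g231 e).adams 2 pw2 (p2 e)).zsmul (-4))).add ((gx_l2_252 e).zsmul (-1))).add (((g252 e).adams 2 pw2 (p2 e)).zsmul (3))).add (((g231 e).mul (g231 e)).zsmul (-2))).add (((g231 e).mul (g252 e)).zsmul (-1))).add (((g252 e).mul (g252 e)).zsmul (1))).add (((g1540 e).adams 2 pw2 (p2 e)).zsmul (1))).add (((g231 e).mul (g1540 e)).zsmul (-2))).add (((g252 e).mul (g1540 e)).zsmul (3))).add (((g1540 e).mul (g1540 e)).zsmul (1))).add ((gx_l3_252 e).zsmul (-1))).add ((g22 e).zsmul (2))).add ((g231 e).zsmul (13))).add ((g252 e).zsmul (-2))).add ((g1540 e).zsmul (8))).congr (by decide +kernel)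

theorem g16038 : GC (clT e) rc (vec l16038) :=
  ((((((((((((((((((((((((((g22 e).mul (g231 e)).zsmul (2)).add (((g22 e).mul (g252 e)).zsmul (4))).add (((g22 e).mul (g1540 e)).zsmul (-3))).add (((g231 e).adams 2 pw2 (p2 e)).zsmul (-2))).add ((gx_l2_252 e).zsmul (-3))).add (((g252 e).adams 2 pw2 (p2 e)).zsmul (2))).add (((g231 e).mul (g231 e)).zsmul (-3))).add (((g231 e).mul (g252 e)).zsmul (-2))).add (((g22 e).adams 5 pw5 (p5 e)).zsmul (1))).add (((g252 e).mul (g252 e)).zsmul (-1))).add (((g231 e).adams 3 pw3 (p3 e)).zsmul (2))).add (((g252 e).adams 3 pw3 (p3 e)).zsmul (-1))).add (((g231 e).mul (g1540 e)).zsmul (-4))).add (((g252 e).mul (g1540 e)).zsmul (1))).add (((g231 e).adams 5 pw5 (p5 e)).zsmul (2))).add (((g252 e).adams 5 pw5 (p5 e)).zsmul (-2))).add ((gx_l2_1540 e).zsmul (1))).add ((gx_l3_231 e).zsmul (-1))).add (((g1540 e).mul (g1540 e)).zsmul (1))).add ((g1 e).zsmul (1))).add ((g22 e).zsmul (-1))).add ((g231 e).zsmul (15))).add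 ((g252 e).zsmul (-2))).add ((g1540 e).zsmul (15))).congr (by decide +kernel)

theorem g9625 : GC (clT e) rc (vec l9625) :=
  (((((((((((((((((g231 e).adams 2 pw2 (p2 e)).zsmul (1)).add (((g22 e).mul (g5544 e)).zsmul (1))).add (((g22 e).mul (g3520 e)).zsmul (1))).add (((g231 e).mul (g1540 e)).zsmul (-1))).add ((g1 e).zsmul (-1))).add ((g22 e).zsmul (2))).add ((g231 e).zsmul (1))).add ((g252 e).zsmul (-2))).add ((g1750 e).zsmul (-1))).add ((g3520 e).zsmul (2))).add ((g5544 e).zsmul (1))).add ((g1540 e).zsmul (1))).add ((g16038 e).zsmul (2))).add ((g19712 e).zsmul (3))).add ((g20790 e).zsmul (3))).congr (by decide +kernel)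

theorem g16500 : GC (clT e) rc (vec l16500) :=
  ((((((((((((((((g22 e).adams 5 pw5 (p5 e)).zsmul (-1)).add (((g231 e).mul (g1540 e)).zsmul (-1))).add (((g22 e).mul (g16038 e)).zsmul (1))).add ((g1 e).zsmul (1))).add ((g22 e).zsmul (4))).add ((g231 e).zsmul (4))).add ((g252 e).zsmul (2))).add ((g3520 e).zsmul (3))).add ((g5103 e).zsmul (-1))).add ((g5544 e).zsmul (-3))).add ((g1540 e).zsmul (3))).add ((g16038 e).zsmul (-1))).add ((g19712 e).zsmul (1))).add ((g20790 e).zsmul (1))).congr (by decide +kernel)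

theorem g4500 : GC (clT e) rc (vec l4500) :=
  (((((((((((((((g22 e).mul (g1750 e)).zsmul (-1)).add (((g231 e).mul (g231 e)).zsmul (-1))).add (((g22 e).mul (g5544 e)).zsmul (-1))).add (((g231 e).mul (g1540 e)).zsmul (1))).add ((g1 e).zsmul (1))).add ((g22 e).zsmul (-2))).add ((g252 e).zsmul (2))).add ((g1750 e).zsmul (2))).add ((g3520 e).zsmul (-2))).add ((g1540 e).zsmul (-1))).add ((g16038 e).zsmul (-2))).add ((g19712 e).zsmul (-3))).add ((g20790 e).zsmul (-2))).congr (by decide +kernel)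

theorem g2R1 : GC (clT e) rc (fun j => 2 * vec l3520b j) :=
  (((((((((g22 e).mul (g5544 e)).zsmul (1)).add ((g3520 e).zsmul (-1))).add ((g1540 e).zsmul (-1))).add ((g16038 e).zsmul (-2))).add ((g16500 e).zsmul (-1))).add ((g19712 e).zsmul (-1))).add ((g20790 e).zsmul (-2))).congr (by decide +kernel)

theorem g2R2 : GC (clT e) rc (fun j => 2 * vec l4752 j) :=
  ((((((((((((((g22 e).mul (g16038 e)).zsmul (1)).add (((g22 e).mul (g5544 e)).zsmul (-1))).add ((g3520 e).zsmul (1))).add ((g4500 e).zsmul (-2))).add ((g5103 e).zsmul (-2))).add ((g5544 e).zsmul (-4))).add ((g9625 e).zsmul (-2))).add ((g1540 e).zsmul (1))).add ((g16038 e).zsmul (-2))).add ((g16500 e).zsmul (-2))).add ((g19712 e).zsmul (-3))).add ((g20790 e).zsmul (-2))).congr (by decide +kernel)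

/-- rational characters -/
def RL : List (List ℤ) := [l1, l22, l231, l252, l1750, l3520, l3520b, l4500, l4752, l5103, l5544, l9625]
/-- sums of two conjugate characters -/
def PL : List (List ℤ) := [l1540, l1792, l16038, l16500, l19712, l20790]
def R (a : Fin 12) : Fin 18 → ℤ := vec (RL.getD a [])
def P (b : Fin 6) : Fin 18 → ℤ := vec (PL.getD b [])

def realB (i : Fin 24) : Bool := [true, true, true, true, true, true, true, true, true, false, true, false, true, false, true,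
  false, false, false, false, false, false, false, false, false].getD i false

theorem x_zero : (clT e).x 0 = 1 := by
  show e.symm (xs 0) = 1
  have h1 : orderOf (gs 0) = 1 := order_gs (by norm_num) (by decide +kernel) (by decide +kernel)
  have h2 : gs 0 = 1 := orderOf_eq_one_iff.1 h1
  have h3 : xs 0 = gs 0 := if_pos (by decide)
  rw [h3, h2, map_one]

theorem clT_c (i : Fin 24) : (clT e).c i = cc i := rfl

theorem RRc : ∀ a b : Fin 12, ∑ i : Fin 24, ((898128000 / cc i : ℕ) : ℤ) * (R a (rc i) * R b (rc i)) =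
    if a = b then ((898128000 : ℕ) : ℤ) else 0 := by decide +kernel

theorem PPc : ∀ a b : Fin 6, ∑ i : Fin 24, ((898128000 / cc i : ℕ) : ℤ) * (P a (rc i) * P b (rc i)) =
    if a = b then 2 * ((898128000 : ℕ) : ℤ) else 0 := by decide +kernel

theorem RPc : ∀ (a : Fin 12) (b : Fin 6), ∑ i : Fin 24, ((898128000 / cc i : ℕ) : ℤ) * (R a (rc i) * P b (rc i)) = 0 := by
  decide +kernel

theorem hRR (a b : Fin 12) : ∑ i, ((Nat.card G / (clT e).c i : ℕ) : ℤ) * (R a (rc i) * R b (rc i)) =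
    if a = b then (Nat.card G : ℤ) else 0 := by
  rw [card_G e]
  exact RRc a b

theorem hPP (a b : Fin 6) : ∑ i, ((Nat.card G / (clT e).c i : ℕ) : ℤ) * (P a (rc i) * P b (rc i)) =
    if a = b then 2 * (Nat.card G : ℤ) else 0 := by
  rw [card_G e]
  exact PPc a b

theorem hRP (a : Fin 12) (b : Fin 6) : ∑ i, ((Nat.card G / (clT e).c i : ℕ) : ℤ) * (R a (rc i) * P b (rc i)) = 0 := by
  rw [card_G e]
  exact RPc a b

theorem comb_real : ∀ i : Fin 24, realB i = false →
    rc i = 9 ∨ rc i = 11 ∨ rc i = 13 ∨ rc i = 15 ∨ rc i = 16 ∨ rc i = 17 := by decide +kernel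

theorem hreal (i : Fin 24) (h : realB i = false) : ¬ IsConj ((clT e).x i) ((clT e).x i)⁻¹ := by
  have h1 := not_conj_inv (comb_real i h)
  intro h2
  have h3 : IsConj (xs i) (xs i)⁻¹ := by
    refine (isConj_symm_iff e).1 ?_
    rw [map_inv]
    exact h2
  apply h1
  unfold xs at h3
  split_ifs at h3
  · exact h3
  · rw [inv_inv] at h3
    exact h3.symm

theorem card_real : (Finset.univ.filter fun i : Fin 24 => realB i = true).card ≤ 12 := by decide +kernel

theorem gP (b : Fin 6) : GC (clT e) rc (P b) := by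
  fin_cases b
  · exact g1540 e
  · exact g1792 e
  · exact g16038 e
  · exact g16500 e
  · exact g19712 e
  · exact g20790 e

theorem gR' (a : Fin 12) (h1 : a ≠ 6) (h2 : a ≠ 8) : GC (clT e) rc (R a) := by
  fin_cases a
  · exact g1 e
  · exact g22 e
  · exact g231 e
  · exact g252 e
  · exact g1750 e
  · exact g3520 e
  · exact absurd rfl h1
  · exact g4500 e
  · exact absurd rfl h2
  · exact g5103 e
  · exact g5544 e
  · exact g9625 e

theorem hodd : ∀ b : Fin 6, ∃ i : Fin 24, Odd (P b (rc i) + R 6 (rc i) + R 8 (rc i)) := by decide +kernel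

theorem hdegc : ∀ b b' : Fin 6, b ≠ b' → ¬ (P b (rc 0) + P b' (rc 0)) ∣ 2 * ((898128000 : ℕ) : ℤ) := by decide +kernel

theorem gR12 : GC (clT e) rc (R 6) ∧ GC (clT e) rc (R 8) :=
  GC.of_double (clT e) rc R P 0 realB (x_zero e) (gP e) (hRR e) (hPP e) (hRP e) (by decide +kernel) (by norm_num)
    (hreal e) card_real 6 8 (by decide) (gR' e) (g2R1 e) (g2R2 e) hodd (by
      rw [card_G e]
      exact hdegc)

theorem gR (a : Fin 12) : GC (clT e) rc (R a) := by
  by_cases h1 : a = 6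
  · rw [h1]; exact (gR12 e).1
  · by_cases h2 : a = 8
    · rw [h2]; exact (gR12 e).2
    · exact gR' e a h1 h2

/-- **The character table of the McLaughlin group**: 12 rational characters and 6 pairs. -/
noncomputable def tab : Table (clT e) rc 12 6 where
  R := R
  P := P
  i0 := 0
  real := realB
  hi0 := x_zero e
  gR := gR e
  gP := gP e
  RR := hRR e
  PP := hPP e
  RP := hRP e
  Rpos := by decide +kernel
  Ppos := by decide +kernel
  hk := by norm_num
  hreal := hreal e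
  card_real := card_real

end

end Cfsg.Agent.H359.CT.McL
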