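import Mathlib

/-!
# Complete lists of conjugacy classes
-/

set_option autoImplicit false

namespace Cfsg.Agent.H359.CT

open Subgroup

variable {G : Type*} [Group G]

theorem mem_cof {a b : G} : b ∈ conjugatesOf a ↔ IsConj a b := Iff.rfl

theorem card_conj_mul [Finite G] (g : G) :
    (conjugatesOf g).ncard * Nat.card (centralizer ({g} : Set G)) = Nat.card G := by
  have h1 : conjugatesOf g = MulAction.orbit (ConjAct G) g := by
    ext y
    rw [mem_cof, MulAction.mem_orbit_iff, isConj_iff]
    constructor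
    · rintro ⟨c, hc⟩
      exact ⟨ConjAct.toConjAct c, by rw [ConjAct.smul_def]; exact hc⟩
    · rintro ⟨c, hc⟩
      exact ⟨ConjAct.ofConjAct c, by rw [ConjAct.smul_def] at hc; exact hc⟩
  have h2 : Nat.card (centralizer ({g} : Set G)) = Nat.card (MulAction.stabilizer (ConjAct G) g) := by
    refine Nat.card_congr
      { toFun := fun c => ⟨ConjAct.toConjAct c.1, ?_⟩
        invFun := fun c => ⟨ConjAct.ofConjAct c.1, ?_⟩
        left_inv := fun c => rfl
        right_inv := fun c => rfl }
    · rw [MulAction.mem_stabilizer_iff, ConjAct.smul_def]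
      have := mem_centralizer_singleton_iff.1 c.2
      change (c : G) * g * (c : G)⁻¹ = g
      rw [this, mul_assoc, mul_inv_cancel, mul_one]
    · have h := c.2
      rw [MulAction.mem_stabilizer_iff, ConjAct.smul_def] at h
      rw [mem_centralizer_singleton_iff]
      exact mul_inv_eq_iff_eq_mul.1 h
  rw [h1, h2, ← Nat.card_coe_set_eq, Nat.card_congr (MulAction.orbitEquivQuotientStabilizer (ConjAct G) g),
    ← Subgroup.index_eq_card, mul_comm, Subgroup.card_mul_index]
  rfl

theorem cover_of_sum [Finite G] {k : ℕ} (x : Fin k → G) (c : Fin k → ℕ)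
    (hc : ∀ i, Nat.card (centralizer ({x i} : Set G)) ≤ c i) (hc0 : ∀ i, 0 < c i)
    (hinj : ∀ i j, IsConj (x i) (x j) → i = j) (hsum : Nat.card G ≤ ∑ i, Nat.card G / c i)
    (hdiv : ∀ i, c i ∣ Nat.card G) :
    (∀ g, ∃ i, IsConj (x i) g) ∧ ∀ i, Nat.card (centralizer ({x i} : Set G)) = c i := by
  classical
  have := Fintype.ofFinite G
  have hpos : 0 < Nat.card G := Nat.card_pos
  have h1 : ∀ i, Nat.card G / c i ≤ (conjugatesOf (x i)).ncard := by
    intro i
    have h := card_conj_mul (x i)
    rw [← h]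
    refine Nat.div_le_of_le_mul ?_
    rw [mul_comm (c i)]
    exact Nat.mul_le_mul_left _ (hc i)
  have hdisj : ∀ i j, i ≠ j → Disjoint (conjugatesOf (x i)).toFinset (conjugatesOf (x j)).toFinset := by
    intro i j hij
    rw [Set.disjoint_toFinset, Set.disjoint_left]
    intro y hy hy'
    rw [mem_cof] at hy hy'
    exact hij (hinj i j (hy.trans hy'.symm))
  have h2 : (Finset.univ.biUnion fun i => (conjugatesOf (x i)).toFinset).card =
      ∑ i, (conjugatesOf (x i)).ncard := by
    rw [Finset.card_biUnion (fun i _ j _ h => hdisj i j h)]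
    exact Finset.sum_congr rfl fun i _ => (Set.ncard_eq_toFinset_card' _).symm
  have h3 : (Finset.univ.biUnion fun i => (conjugatesOf (x i)).toFinset).card ≤ Nat.card G := by
    rw [Nat.card_eq_fintype_card]
    exact Finset.card_le_univ _
  have h4 : ∑ i, Nat.card G / c i ≤ ∑ i, (conjugatesOf (x i)).ncard := Finset.sum_le_sum fun i _ => h1 i
  have h5 : (Finset.univ.biUnion fun i => (conjugatesOf (x i)).toFinset) = Finset.univ := by
    apply Finset.eq_univ_of_card
    rw [← Nat.card_eq_fintype_card]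
    omega
  refine ⟨fun g => ?_, fun i => ?_⟩
  · have : g ∈ Finset.univ.biUnion fun i => (conjugatesOf (x i)).toFinset := by rw [h5]; exact Finset.mem_univ _
    rw [Finset.mem_biUnion] at this
    obtain ⟨i, -, hi⟩ := this
    rw [Set.mem_toFinset, mem_cof] at hi
    exact ⟨i, hi⟩
  · have h6 : ∑ i, Nat.card G / c i = ∑ i, (conjugatesOf (x i)).ncard := by omega
    have h7 := (Finset.sum_eq_sum_iff_of_le fun i _ => h1 i).1 h6 i (Finset.mem_univ _)
    have h8 := card_conj_mul (x i)
    rw [← h7] at h8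
    have h9 : Nat.card G / c i * c i = Nat.card G := Nat.div_mul_cancel (hdiv i)
    have h10 : 0 < Nat.card G / c i := Nat.div_pos (Nat.le_of_dvd hpos (hdiv i)) (hc0 i)
    rw [← h9] at h8
    have h11 : Nat.card G / c i * c i / c i = Nat.card G / c i := Nat.mul_div_cancel _ (hc0 i)
    rw [h11] at h8
    exact Nat.eq_of_mul_eq_mul_left h10 h8

/-- A subgroup of `K` centralizing `x`, not the whole centralizer in `H`. -/
theorem two_mul_le [Finite G] {K H : Subgroup G} (hKH : K ≤ H) {x y : G} (hy : y ∈ H) (hyK : y ∉ K)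
    (hyx : y * x = x * y) : 2 * Nat.card ↥(K ⊓ centralizer ({x} : Set G)) ≤ Nat.card ↥(H ⊓ centralizer ({x} : Set G)) := by
  have h1 : K ⊓ centralizer ({x} : Set G) < H ⊓ centralizer ({x} : Set G) := by
    refine lt_of_le_of_ne (inf_le_inf_right _ hKH) fun h => hyK ?_
    have : y ∈ H ⊓ centralizer ({x} : Set G) := ⟨hy, mem_centralizer_singleton_iff.2 hyx⟩
    rw [← h] at this
    exact this.1
  obtain ⟨m, hm⟩ := Subgroup.card_dvd_of_le h1.le
  have h2 : m ≠ 0 := by
    rintro rfl
    rw [mul_zero] at hm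
    exact Nat.card_pos.ne' hm
  have h3 : m ≠ 1 := by
    rintro rfl
    rw [mul_one] at hm
    exact h1.ne (Subgroup.eq_of_le_of_card_ge h1.le hm.le)
  rw [hm, mul_comm]
  exact Nat.mul_le_mul_left _ (by omega)

end Cfsg.Agent.H359.CT
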