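import Cfsg.Agent.SporadicA.PermTab

/-!
# Upper bounds of centralizers in automorphism groups of graphs

`card_le_bnd`: a kernel-checkable bound of the number of elements of a group `S ≤ autG n A`
centralizing the permutation with table `X`, by colour refinement and individualization.
-/

set_option autoImplicit false

namespace Cfsg.Agent.H359.CT

open Equiv Cfsg.Agent.SporadicA.PermTab

/-- sums -/
def sumN (f : ℕ → ℕ) (n : ℕ) : ℕ := Nat.rec 0 (fun k ih => Nat.add ih (f k)) n

theorem sumN_eq (f : ℕ → ℕ) (n : ℕ) : sumN f n = ∑ i ∈ Finset.range n, f i := by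
  induction n with
  | zero => rfl
  | succ n ih => rw [Finset.sum_range_succ, ← ih]; rfl

theorem sumN_fin (f : ℕ → ℕ) (n : ℕ) : sumN f n = ∑ i : Fin n, f i := by
  rw [sumN_eq, Finset.sum_range]

def bt (row w : ℕ) : ℕ := Nat.land (Nat.shiftRight row w) 1

theorem bt_rowM (n A v w : ℕ) (hw : w < n) : bt (rowM n A v) w = bitM n A v w := by
  have h1 : bt (rowM n A v) w = (Nat.testBit (rowM n A v) w).toNat := by
    rw [Nat.toNat_testBit]
    change (rowM n A v >>> w) &&& 1 = _
    rw [Nat.and_one_is_mod, Nat.shiftRight_eq_div_pow]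
  rw [h1, testBit_rowM, bitM_eq]
  simp [hw]

def hf (t c : ℕ) : ℕ := Nat.pow (Nat.add (Nat.mul t 512) (Nat.add c 7)) 3

def inner (n X C row : ℕ) : ℕ :=
  sumN (fun w => hf (Nat.add (bt row w) (Nat.mul 2 (bt row (lk X w)))) (lk C w)) n

/-- the invariant of the vertex `v` computed from the colouring `C` -/
def key (n A X C v : ℕ) : ℕ :=
  force (rowM n A v) fun row => force (lk X v) fun xv =>
    Nat.add (lk C v) (Nat.mul 2048 (Nat.add (Nat.add (cond (Nat.beq xv v) 1 0)
      (Nat.add (Nat.mul 2 (bt row xv)) (Nat.mul 4 (lk C xv)))) (Nat.mul 16384 (inner n X C row))))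

/-- the place of `v` in the orbit of `b` -/
def pos (X v k : ℕ) : ℕ → ℕ :=
  Nat.rec (motive := fun _ => ℕ → ℕ) (fun _ => 0)
    (fun k ih p => cond (Nat.beq p v) (Nat.succ k) (force (lk X p) ih)) k

def key2 (X C b k v : ℕ) : ℕ := Nat.add (lk C v) (Nat.mul 2048 (pos X v k b))

/-- entries of width 80 -/
def en (V j : ℕ) : ℕ := Nat.land (Nat.shiftRight V (Nat.mul 80 j)) 1208925819614629174706175

/-- the colouring `C'` is the partition given by the values of `f` -/
def chkCol (n : ℕ) (f : ℕ → ℕ) (C' V m : ℕ) : Bool :=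
  band (allB (fun v => band (Nat.blt (lk C' v) m) (Nat.beq (f v) (en V (lk C' v)))) n)
    (allB (fun j => Nat.blt (en V j) (en V (Nat.succ j))) (Nat.pred m))

theorem chkCol_spec {n : ℕ} {f : ℕ → ℕ} {C' V m : ℕ} (h : chkCol n f C' V m = true) {v w : ℕ} (hv : v < n)
    (hw : w < n) (e : f v = f w) : lk C' v = lk C' w := by
  rw [chkCol, band_eq_true] at h
  obtain ⟨h1, h2⟩ := h
  rw [allB_iff] at h1 h2
  have hinc : ∀ j k : ℕ, k < m → j < k → en V j < en V k := by
    intro j k hk
    induction k with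
    | zero => intro h; omega
    | succ k ih =>
      intro hjk
      have h3 : en V k < en V (k + 1) := by
        have := h2 k (by change k < m - 1; omega)
        exact Nat.blt_eq ▸ this
      rcases Nat.lt_succ_iff_lt_or_eq.1 hjk with h4 | h4
      · exact (ih (by omega) h4).trans h3
      · rw [h4]; exact h3
  have h3 := h1 v hv
  have h4 := h1 w hw
  rw [band_eq_true] at h3 h4
  have h5 : lk C' v < m := Nat.blt_eq ▸ h3.1
  have h6 : lk C' w < m := Nat.blt_eq ▸ h4.1
  have h7 := Nat.eq_of_beq_eq_true h3.2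
  have h8 := Nat.eq_of_beq_eq_true h4.2
  rcases lt_trichotomy (lk C' v) (lk C' w) with h9 | h9 | h9
  · have := hinc _ _ h6 h9
    omega
  · exact h9
  · have := hinc _ _ h5 h9
    omega

/-- the steps of a certificate -/
inductive Stp where
  | ref (C V m : ℕ) : Stp
  | ind (b s k C V m : ℕ) : Stp

/-- the check -/
def chk (n A X D : ℕ) : List Stp → ℕ → Bool
  | [], C => allB (fun v => Nat.beq (lk D (lk C v)) v) n
  | Stp.ref C' V m :: L, C => band (chkCol n (key n A X C) C' V m) (chk n A X D L C')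
  | Stp.ind b s k C' V m :: L, C => band (Nat.blt b n)
      (band (cntB (fun v => Nat.beq (lk C v) (lk C b)) n s)
        (band (chkCol n (key2 X C b k) C' V m) (chk n A X D L C')))

/-- the bound -/
def bnd : List Stp → ℕ
  | [] => 1
  | Stp.ref _ _ _ :: L => bnd L
  | Stp.ind _ s _ _ _ _ :: L => s * bnd L

variable {n A X : ℕ} {x : Perm (Fin n)}

theorem apply_comm (hX : ∀ i : Fin n, ((x i : Fin n) : ℕ) = lk X i) {g : Perm (Fin n)} (hg : g * x = x * g)
    (i : Fin n) : lk X (g i : Fin n) = (g (x i) : Fin n) := by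
  rw [← hX (g i)]
  congr 1
  exact (DFunLike.congr_fun hg i).symm

theorem key_inv (hX : ∀ i : Fin n, ((x i : Fin n) : ℕ) = lk X i) {g : Perm (Fin n)} (hA : g ∈ autG n A)
    (hg : g * x = x * g) {C : ℕ} (hC : ∀ i : Fin n, lk C (g i : Fin n) = lk C i) (v : Fin n) :
    key n A X C (g v : Fin n) = key n A X C v := by
  have h1 := apply_comm hX hg v
  have hlt : (v : ℕ) < n := v.2
  simp only [key, force_eq]
  rw [h1]
  have hxv : lk X v = ((x v : Fin n) : ℕ) := (hX v).symm
  rw [hxv, hC v, hC (x v)]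
  have e1 : Nat.beq (g (x v) : Fin n) (g v : Fin n) = Nat.beq (x v : Fin n) v := by
    rw [Bool.eq_iff_iff, Nat.beq_eq, Nat.beq_eq]
    constructor
    · intro h; rw [g.injective (Fin.ext h)]
    · intro h; rw [Fin.ext h]
  have e2 : bt (rowM n A (g v : Fin n)) (g (x v) : Fin n) = bt (rowM n A v) (x v : Fin n) := by
    rw [bt_rowM _ _ _ _ (g (x v)).2, bt_rowM _ _ _ _ (x v).2]
    exact hA v (x v)
  have e3 : inner n X C (rowM n A (g v : Fin n)) = inner n X C (rowM n A v) := by
    unfold inner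
    rw [sumN_fin, sumN_fin]
    rw [← Equiv.sum_comp g]
    refine Finset.sum_congr rfl fun w _ => ?_
    rw [hC w, apply_comm hX hg w, bt_rowM _ _ _ _ (g w).2, bt_rowM _ _ _ _ (g (x w)).2,
      bt_rowM _ _ _ _ w.2, ← hX w, bt_rowM _ _ _ _ (x w).2, hA v w, hA v (x w)]
  rw [e1, e2, e3]

theorem pos_inv (hX : ∀ i : Fin n, ((x i : Fin n) : ℕ) = lk X i) {g : Perm (Fin n)}
    (hg : g * x = x * g) (v : Fin n) (k : ℕ) : ∀ p : Fin n, g p = p →
    pos X (g v : Fin n) k p = pos X v k p := by
  induction k with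
  | zero => intro p _; rfl
  | succ k ih =>
    intro p hp
    change cond (Nat.beq p (g v : Fin n)) (Nat.succ k) (force (lk X p) (pos X (g v : Fin n) k)) =
      cond (Nat.beq p v) (Nat.succ k) (force (lk X p) (pos X v k))
    have e1 : Nat.beq (p : ℕ) (g v : Fin n) = Nat.beq (p : ℕ) v := by
      rw [Bool.eq_iff_iff, Nat.beq_eq, Nat.beq_eq]
      constructor
      · intro h
        have h2 : g p = g v := hp.trans (Fin.ext h)
        rw [g.injective h2]
      · intro h
        have h2 : p = v := Fin.ext h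
        rw [← h2, hp]
    rw [e1, force_eq, force_eq, ← hX p, ih (x p)]
    have h3 : g (x p) = x (g p) := DFunLike.congr_fun hg p
    rw [h3, hp]

/-- **The bound.** -/
theorem card_le_bnd (hX : ∀ i : Fin n, ((x i : Fin n) : ℕ) = lk X i) {D : ℕ} :
    ∀ (L : List Stp) (C : ℕ) (S : Subgroup (Perm (Fin n))), S ≤ autG n A → (∀ g ∈ S, g * x = x * g) →
      (∀ g ∈ S, ∀ i : Fin n, lk C (g i : Fin n) = lk C i) → chk n A X D L C = true → Nat.card S ≤ bnd L
  | [], C, S, hA, hS, hC, h => by
    have h1 : S = ⊥ := by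
      rw [Subgroup.eq_bot_iff_forall]
      intro g hg
      ext i : 1
      apply Fin.ext
      rw [chk, allB_iff] at h
      have h2 := Nat.eq_of_beq_eq_true (h (g i) (g i).2)
      have h3 := Nat.eq_of_beq_eq_true (h i i.2)
      rw [hC g hg i, h3] at h2
      exact h2.symm
    rw [h1]
    simp [bnd]
  | Stp.ref C' V m :: L, C, S, hA, hS, hC, h => by
    rw [chk, band_eq_true] at h
    refine card_le_bnd hX L C' S hA hS ?_ h.2
    intro g hg i
    exact chkCol_spec h.1 (g i).2 i.2 (key_inv hX (hA hg) (hS g hg) (hC g hg) i)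
  | Stp.ind b s k C' V m :: L, C, S, hA, hS, hC, h => by
    rw [chk, band_eq_true, band_eq_true, band_eq_true] at h
    obtain ⟨hb, h1, h2, h3⟩ := h
    have hb' : b < n := Nat.blt_eq ▸ hb
    let b' : Fin n := ⟨b, hb'⟩
    refine card_le S b' (Finset.univ.filter fun i : Fin n => Nat.beq (lk C i) (lk C b) = true) ?_
      (card_fin_of_cntB _ _ _ h1) ?_
    · intro g hg
      rw [Finset.mem_filter]
      refine ⟨Finset.mem_univ _, ?_⟩
      rw [hC g hg b']
      exact Nat.beq_refl _
    · refine card_le_bnd hX L C' (ps S b') ((ps_le S b').trans hA) (fun g hg => hS g hg.1) ?_ h3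
      rintro g ⟨hg, hgb⟩ i
      refine chkCol_spec h2 (g i).2 i.2 ?_
      unfold key2
      rw [hC g hg i]
      have := pos_inv hX (hS g hg) i k b' hgb
      rw [this]

end Cfsg.Agent.H359.CT
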