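import Cfsg.Agent.H359.CT.McLCh0
import Cfsg.Agent.H359.CT.McLCh1
import Cfsg.Agent.H359.CT.McLCh2
import Cfsg.Agent.H359.CT.McLCh3
import Cfsg.Agent.H359.CT.McLCh4

/-!
# The 24 conjugacy classes of the McLaughlin group
-/

set_option autoImplicit false
set_option maxRecDepth 100000
set_option linter.unusedSimpArgs false

namespace Cfsg.Agent.H359.CT.McL

open Cfsg Equiv Subgroup Cfsg.Agent.H359.CT Cfsg.Agent.H904.McLCent Cfsg.Agent.McLType.X275 Cfsg.Agent.McLType.Gens Cfsg.Agent.SporadicA.PermTab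

/-! ### the group -/

theorem card_K0 : Nat.card K0 = 898128000 := by
  rw [← range_ψ, ← Nat.card_congr (MonoidHom.ofInjective ψ_injective).toEquiv, card_G1]

noncomputable def eK0 : G1 ≃* ↥K0 := (MonoidHom.ofInjective ψ_injective).trans (MulEquiv.subgroupCongr range_ψ)

theorem iso_K0 : Spor.IsoMcL ↥K0 := by
  obtain ⟨f⟩ := isoMcL_G1
  exact ⟨eK0.symm.trans f⟩

theorem exists_tau : ∃ t ∈ Hh, ∀ i : Fin 275, (t i : ℕ) = lk tt i :=
  ⟨mkPerm tt tt tt_chk, mkPerm_mem_autG tt_chk (rowsOK_of_chk (chkInv_lt tt_chk) (chkInv_inj tt_chk) tt_rows),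
    fun _ => rfl⟩

theorem exists_u9 : ∃ t ∈ Hh, ∀ i : Fin 275, (t i : ℕ) = lk u9 i :=
  ⟨mkPerm u9 u9i u9_chk, mkPerm_mem_autG u9_chk (rowsOK_of_chk (chkInv_lt u9_chk) (chkInv_inj u9_chk) u9_rows),
    fun _ => rfl⟩

theorem ne_one_of_FP {g : Perm (Fin 275)} {m : ℕ} (h : FP 1 g = m) (hm : m ≠ 275) : g ≠ 1 := by
  rintro rfl
  apply hm
  rw [← h]
  simp [FP]

/-- involutions of `K0` are conjugate -/
theorem invol_conj {s t : ↥K0} (hs : s * s = 1) (hs1 : s ≠ 1) (ht : t * t = 1) (ht1 : t ≠ 1) : IsConj s t := by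
  obtain ⟨-, -, -, ⟨M⟩⟩ := TypeM.FactsMcL.facts iso_K0
  obtain ⟨a, ha⟩ := M.one s hs hs1
  obtain ⟨b, hb⟩ := M.one t ht ht1
  exact ((isConj_iff.2 ⟨a, ha⟩).symm).trans (isConj_iff.2 ⟨b, hb⟩)

theorem coe_conj {a b : ↥K0} (h : IsConj a b) : IsConj (a : Perm (Fin 275)) (b : Perm (Fin 275)) :=
  K0.subtype.map_isConj h

theorem tau_notMem {t : Perm (Fin 275)} (ht : ∀ i : Fin 275, (t i : ℕ) = lk tt i) : t ∉ K0 := by
  intro htK
  obtain ⟨a, haK, ha⟩ : InG K0 e_a := inAll e_a (by simp [e7])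
  have h1 : FP 1 t = 11 := FP_eq ht (by decide +kernel)
  have h2 : FP 1 a = 35 := FP_eq ha (by decide +kernel)
  have h3 : t * t = 1 := by rw [← pow_two]; exact pow_of_chk ht (by decide +kernel)
  have h4 : a * a = 1 := by rw [← pow_two]; exact pow_of_chk ha (by decide +kernel)
  have h5 := invol_conj (s := ⟨t, htK⟩) (t := ⟨a, haK⟩) (Subtype.ext h3)
    (fun h => ne_one_of_FP h1 (by norm_num) (congrArg Subtype.val h)) (Subtype.ext h4)
    (fun h => ne_one_of_FP h2 (by norm_num) (congrArg Subtype.val h))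
  have h6 := FP_conj 1 (coe_conj h5)
  change FP 1 t = FP 1 a at h6
  rw [h1, h2] at h6
  exact absurd h6 (by norm_num)

theorem card_Hh_le : Nat.card ↥Hh ≤ 1796256000 := by
  have h := card_cent_le (g := (1 : Perm (Fin 275))) (P := X1A) (A := adjM) (by decide +kernel) chk1A bnd1A
  have h1 : autG 275 adjM ⊓ centralizer ({(1 : Perm (Fin 275))} : Set (Perm (Fin 275))) = Hh := by
    rw [inf_eq_left]
    intro g _
    rw [mem_centralizer_singleton_iff]
    simp
  rw [h1] at h
  exact h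

theorem two : Two K0 Hh := Two.of_card K0_le (by rw [card_K0]; exact card_Hh_le)

/-! ### the elements -/

theorem pt_e {P : ℕ} (h : P ∈ e7) : PT K0 Hh true P := PT.of_inG K0_le (inAll P h)

theorem pt_a : PT K0 Hh true e_a := pt_e (by simp [e7])
theorem pt_b : PT K0 Hh true e_b := pt_e (by simp [e7])
theorem pt_c : PT K0 Hh true e_c := pt_e (by simp [e7])
theorem pt_x : PT K0 Hh true e_x := pt_e (by simp [e7])
theorem pt_y : PT K0 Hh true e_y := pt_e (by simp [e7])
theorem pt_w : PT K0 Hh true e_w := pt_e (by simp [e7])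
theorem pt_g : PT K0 Hh true e_g := pt_e (by simp [e7])

theorem pt_tt : PT K0 Hh false tt := by
  obtain ⟨t, ht, hti⟩ := exists_tau
  exact ⟨t, ht, by simpa using tau_notMem hti, hti⟩

theorem pt_z24 : PT K0 Hh false z24 := PT.word two [(e_a, true), (e_w, true), (tt, false)] (by
  simp only [List.mem_cons, List.not_mem_nil, or_false, forall_eq_or_imp, forall_eq]
  simp only [pt_a, pt_b, pt_c, pt_x, pt_y, pt_w, pt_g, pt_tt, and_self]) (by decide +kernel) rfl

theorem pt_z20 : PT K0 Hh false z20 := PT.word two [(e_x, true), (e_y, true), (tt, false)] (by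
  simp only [List.mem_cons, List.not_mem_nil, or_false, forall_eq_or_imp, forall_eq]
  simp only [pt_a, pt_b, pt_c, pt_x, pt_y, pt_w, pt_g, pt_tt, and_self]) (by decide +kernel) rfl

theorem pt_z22 : PT K0 Hh false z22 := PT.word two [(e_x, true), (e_y, true), (e_g, true), (tt, false)] (by
  simp only [List.mem_cons, List.not_mem_nil, or_false, forall_eq_or_imp, forall_eq]
  simp only [pt_a, pt_b, pt_c, pt_x, pt_y, pt_w, pt_g, pt_tt, and_self]) (by decide +kernel) rfl

theorem pt_z10 : PT K0 Hh false z10 := PT.word two [(e_b, true), (e_w, true), (e_g, true), (tt, false)] (by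
  simp only [List.mem_cons, List.not_mem_nil, or_false, forall_eq_or_imp, forall_eq]
  simp only [pt_a, pt_b, pt_c, pt_x, pt_y, pt_w, pt_g, pt_tt, and_self]) (by decide +kernel) rfl

theorem pt_z12 : PT K0 Hh false z12 := PT.word two [(e_b, true), (e_y, true), (tt, false)] (by
  simp only [List.mem_cons, List.not_mem_nil, or_false, forall_eq_or_imp, forall_eq]
  simp only [pt_a, pt_b, pt_c, pt_x, pt_y, pt_w, pt_g, pt_tt, and_self]) (by decide +kernel) rfl

theorem pt_z6 : PT K0 Hh false z6 := PT.word two [(e_g, true), (tt, false)] (by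
  simp only [List.mem_cons, List.not_mem_nil, or_false, forall_eq_or_imp, forall_eq]
  simp only [pt_a, pt_b, pt_c, pt_x, pt_y, pt_w, pt_g, pt_tt, and_self]) (by decide +kernel) rfl

theorem pt_X8A : PT K0 Hh true X8A := PT.word two [(e_a, true), (e_b, true), (e_c, true)] (by
  simp only [List.mem_cons, List.not_mem_nil, or_false, forall_eq_or_imp, forall_eq]
  simp only [pt_a, pt_b, pt_c, pt_x, pt_y, pt_w, pt_g, pt_tt, and_self]) (by decide +kernel) rfl

theorem pt_X30A : PT K0 Hh true X30A := PT.word two [(e_w, true), (e_y, true), (e_x, true), (e_a, true), (tt, false), (e_a, true), (e_x, true), (e_y, true), (e_w, true), (tt, false)] (by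
  simp only [List.mem_cons, List.not_mem_nil, or_false, forall_eq_or_imp, forall_eq]
  simp only [pt_a, pt_b, pt_c, pt_x, pt_y, pt_w, pt_g, pt_tt, and_self]) (by decide +kernel) rfl

theorem pt_X14A : PT K0 Hh true X14A := PT.word two [(e_g, true), (e_w, true), (e_y, true), (e_x, true), (tt, false), (e_x, true), (e_y, true), (e_w, true), (e_g, true), (tt, false)] (by
  simp only [List.mem_cons, List.not_mem_nil, or_false, forall_eq_or_imp, forall_eq]
  simp only [pt_a, pt_b, pt_c, pt_x, pt_y, pt_w, pt_g, pt_tt, and_self]) (by decide +kernel) rfl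

theorem pt_X9A : PT K0 Hh true X9A := PT.word two [(e_x, true), (e_y, true), (e_w, true), (e_g, true), (e_x, true), (tt, false), (e_x, true), (e_g, true), (e_w, true), (e_y, true), (e_x, true), (tt, false)] (by
  simp only [List.mem_cons, List.not_mem_nil, or_false, forall_eq_or_imp, forall_eq]
  simp only [pt_a, pt_b, pt_c, pt_x, pt_y, pt_w, pt_g, pt_tt, and_self]) (by decide +kernel) rfl

theorem pt_X12A : PT K0 Hh true X12A := PT.word two [(z24, false), (z24, false)] (by
  simp [pt_z24]) (by decide +kernel) rfl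

theorem pt_X6A : PT K0 Hh true X6A := PT.word two [(X12A, true), (X12A, true)] (by
  simp [pt_X12A]) (by decide +kernel) rfl

theorem pt_X3A : PT K0 Hh true X3A := PT.word two [(X6A, true), (X6A, true)] (by
  simp [pt_X6A]) (by decide +kernel) rfl

theorem pt_X4A : PT K0 Hh true X4A := PT.word two [(X12A, true), (X6A, true)] (by
  simp [pt_X12A, pt_X6A]) (by decide +kernel) rfl

theorem pt_X2A : PT K0 Hh true X2A := PT.word two [(X4A, true), (X4A, true)] (by
  simp [pt_X4A]) (by decide +kernel) rfl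

theorem pt_X10A : PT K0 Hh true X10A := PT.word two [(z20, false), (z20, false)] (by
  simp [pt_z20]) (by decide +kernel) rfl

theorem pt_X5A : PT K0 Hh true X5A := PT.word two [(X10A, true), (X10A, true)] (by
  simp [pt_X10A]) (by decide +kernel) rfl

theorem pt_X11A : PT K0 Hh true X11A := PT.word two [(z22, false), (z22, false)] (by
  simp [pt_z22]) (by decide +kernel) rfl

theorem pt_X5B : PT K0 Hh true X5B := PT.word two [(z10, false), (z10, false)] (by
  simp [pt_z10]) (by decide +kernel) rfl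

theorem pt_X6B : PT K0 Hh true X6B := PT.word two [(z12, false), (z12, false)] (by
  simp [pt_z12]) (by decide +kernel) rfl

theorem pt_X3B : PT K0 Hh true X3B := PT.word two [(z6, false), (z6, false)] (by
  simp [pt_z6]) (by decide +kernel) rfl

theorem pt_X15A : PT K0 Hh true X15A := PT.word two [(X30A, true), (X30A, true)] (by
  simp [pt_X30A]) (by decide +kernel) rfl

theorem pt_X7A : PT K0 Hh true X7A := PT.word two [(X14A, true), (X14A, true)] (by
  simp [pt_X14A]) (by decide +kernel) rfl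

theorem pt_X1A : PT K0 Hh true X1A := PT.word two [] (by simp) (by decide +kernel) rfl

/-- the tables of the representatives -/
def XT (i : Fin 18) : ℕ := [X1A, X2A, X3A, X3B, X4A, X5A, X5B, X6A, X6B, X7A, X8A, X9A, X10A, X11A, X12A, X14A, X15A, X30A].getD i 0

theorem pt_XT (i : Fin 18) : PT K0 Hh true (XT i) := by
  fin_cases i
  · exact pt_X1A
  · exact pt_X2A
  · exact pt_X3A
  · exact pt_X3B
  · exact pt_X4A
  · exact pt_X5A
  · exact pt_X5B
  · exact pt_X6A
  · exact pt_X6B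
  · exact pt_X7A
  · exact pt_X8A
  · exact pt_X9A
  · exact pt_X10A
  · exact pt_X11A
  · exact pt_X12A
  · exact pt_X14A
  · exact pt_X15A
  · exact pt_X30A

theorem exists_gs (i : Fin 18) : ∃ g : ↥K0, ∀ j : Fin 275, ((g : Perm (Fin 275)) j : ℕ) = lk (XT i) j := by
  obtain ⟨g, hg, hgi⟩ := (pt_XT i).inG
  exact ⟨⟨g, hg⟩, hgi⟩

/-- the representatives of the 18 rational classes -/
noncomputable def gs (i : Fin 18) : ↥K0 := (exists_gs i).choose

theorem gs_spec (i : Fin 18) (j : Fin 275) : ((gs i : Perm (Fin 275)) j : ℕ) = lk (XT i) j :=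
  (exists_gs i).choose_spec j

/-- exponents -/
def EX : List ℕ := [1, 2, 3, 4, 5, 6, 10, 15, 25, 30, 45, 75]

/-- numbers of fixed points of powers -/
def fpt : List (List ℕ) := [[275, 275, 275, 275, 275, 275, 275, 275, 275, 275, 275, 275],
  [35, 275, 35, 275, 35, 275, 275, 35, 35, 275, 35, 35],
  [5, 5, 275, 5, 5, 275, 5, 275, 5, 275, 275, 275],
  [14, 14, 275, 14, 14, 275, 14, 275, 14, 275, 275, 275],
  [7, 35, 7, 275, 7, 35, 35, 7, 7, 35, 7, 7],
  [0, 0, 0, 0, 275, 0, 275, 275, 275, 275, 275, 275],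
  [5, 5, 5, 5, 275, 5, 275, 275, 275, 275, 275, 275],
  [5, 5, 35, 5, 5, 275, 5, 35, 5, 275, 35, 35],
  [2, 14, 35, 14, 2, 275, 14, 35, 2, 275, 35, 35],
  [2, 2, 2, 2, 2, 2, 2, 2, 2, 2, 2, 2],
  [1, 7, 1, 35, 1, 7, 7, 1, 1, 7, 1, 1],
  [2, 2, 5, 2, 2, 5, 2, 5, 2, 5, 275, 5],
  [0, 0, 0, 0, 35, 0, 275, 35, 35, 275, 35, 35],
  [0, 0, 0, 0, 0, 0, 0, 0, 0, 0, 0, 0],
  [1, 5, 7, 5, 1, 35, 5, 7, 1, 35, 7, 7],
  [0, 2, 0, 2, 0, 2, 2, 0, 0, 2, 0, 0],
  [0, 0, 0, 0, 5, 0, 5, 275, 5, 275, 275, 275],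
  [0, 0, 0, 0, 5, 0, 5, 35, 5, 275, 35, 35]]

theorem fp_chk : ∀ i : Fin 18, ∀ e : Fin 12, chkFP 275 (XT i) (EX.getD e 0) ((fpt.getD i []).getD e 0) = true := by
  decide +kernel

theorem FP_gs (i : Fin 18) (e : Fin 12) :
    FP (EX.getD e 0) (gs i : Perm (Fin 275)) = (fpt.getD i []).getD e 0 := FP_eq (gs_spec i) (fp_chk i e)

/-- centralizer orders of the rational representatives -/
def cs (i : Fin 18) : ℕ := [898128000, 40320, 29160, 972, 96, 750, 25, 360, 36, 14, 8, 27, 30, 11, 12, 14, 30, 30].getD i 0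

theorem card_cent_K (g : ↥K0) : Nat.card (centralizer ({g} : Set ↥K0)) =
    Nat.card ↥(K0 ⊓ centralizer ({(g : Perm (Fin 275))} : Set (Perm (Fin 275)))) := by
  refine Nat.card_congr
    { toFun := fun c => ⟨(c.1 : Perm (Fin 275)), c.1.2, ?_⟩
      invFun := fun c => ⟨⟨c.1, c.2.1⟩, ?_⟩
      left_inv := fun c => rfl
      right_inv := fun c => rfl }
  · refine mem_centralizer_singleton_iff.2 ?_
    exact congrArg Subtype.val (mem_centralizer_singleton_iff.1 c.2)
  · rw [mem_centralizer_singleton_iff]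
    exact Subtype.ext (mem_centralizer_singleton_iff.1 c.2.2)

theorem cent_nonsplit {i : Fin 18} {D b y : ℕ} {L : List Stp} (h : chk 275 adjM (XT i) D L 0 = true)
    (hb : bnd L = b) (hy : PT K0 Hh false y) (hc : chkComm 275 y (XT i) = true) (hcs : 2 * cs i = b) :
    Nat.card (centralizer ({gs i} : Set ↥K0)) ≤ cs i := by
  obtain ⟨g, hg, hgK, hgi⟩ := hy
  have h1 := card_cent_le (gs_spec i) h hb
  have h2 := two_mul_le K0_le (x := (gs i : Perm (Fin 275))) hg (fun h => by simpa using hgK.1 h)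
    (comm_of_chk hgi (gs_spec i) hc)
  rw [card_cent_K]
  omega

theorem cent_split {i : Fin 18} {D b : ℕ} {L : List Stp} (h : chk 275 adjM (XT i) D L 0 = true)
    (hb : bnd L = b) (hcs : cs i = b) : Nat.card (centralizer ({gs i} : Set ↥K0)) ≤ cs i := by
  have h1 := card_cent_le (gs_spec i) h hb
  have h2 : Nat.card ↥(K0 ⊓ centralizer ({(gs i : Perm (Fin 275))} : Set (Perm (Fin 275)))) ≤
      Nat.card ↥(autG 275 adjM ⊓ centralizer ({(gs i : Perm (Fin 275))} : Set (Perm (Fin 275)))) :=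
    Nat.le_of_dvd Nat.card_pos (Subgroup.card_dvd_of_le (inf_le_inf_right _ K0_le))
  rw [card_cent_K]
  omega

theorem cent_le (i : Fin 18) : Nat.card (centralizer ({gs i} : Set ↥K0)) ≤ cs i := by
  fin_cases i
  · exact cent_nonsplit chk1A bnd1A pt_tt (by decide +kernel) rfl
  · exact cent_nonsplit chk2A bnd2A pt_z24 (by decide +kernel) rfl
  · exact cent_nonsplit chk3A bnd3A pt_z24 (by decide +kernel) rfl
  · exact cent_nonsplit chk3B bnd3B pt_z6 (by decide +kernel) rfl
  · exact cent_nonsplit chk4A bnd4A pt_z24 (by decide +kernel) rfl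
  · exact cent_nonsplit chk5A bnd5A pt_z20 (by decide +kernel) rfl
  · exact cent_nonsplit chk5B bnd5B pt_z10 (by decide +kernel) rfl
  · exact cent_nonsplit chk6A bnd6A pt_z24 (by decide +kernel) rfl
  · exact cent_nonsplit chk6B bnd6B pt_z12 (by decide +kernel) rfl
  · exact cent_split chk7A bnd7A rfl
  · exact cent_nonsplit chk8A bnd8A pt_tt (by decide +kernel) rfl
  · exact cent_split chk9A bnd9A rfl
  · exact cent_nonsplit chk10A bnd10A pt_z20 (by decide +kernel) rfl
  · exact cent_nonsplit chk11A bnd11A pt_z22 (by decide +kernel) rfl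
  · exact cent_nonsplit chk12A bnd12A pt_z24 (by decide +kernel) rfl
  · exact cent_split chk14A bnd14A rfl
  · exact cent_split chk15A bnd15A rfl
  · exact cent_split chk30A bnd30A rfl

/-! ### non-real classes -/

theorem nonreal_of {i : Fin 18} {m : ℕ} (hi : chkInvert 275 (XT i) tt = true)
    (hm : m ≤ Nat.card (centralizer ({gs i} : Set ↥K0)))
    (hH : Nat.card ↥(autG 275 adjM ⊓ centralizer ({(gs i : Perm (Fin 275))} : Set (Perm (Fin 275)))) < 2 * m) :
    ¬ IsConj (gs i) (gs i)⁻¹ := by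
  intro h
  obtain ⟨k, hk⟩ := isConj_iff.1 h
  obtain ⟨t, ht, hti⟩ := exists_tau
  have h1 := inv_of_chk (gs_spec i) hti hi
  have h2 : (k : Perm (Fin 275)) * gs i * (k : Perm (Fin 275))⁻¹ = (gs i : Perm (Fin 275))⁻¹ := congrArg Subtype.val hk
  set g : Perm (Fin 275) := (gs i : Perm (Fin 275)) with hg
  set κ : Perm (Fin 275) := (k : Perm (Fin 275)) with hκ
  have h3 : t * g * t⁻¹ = g⁻¹ := by
    have : g * t * g * t⁻¹ = 1 := by rw [h1, mul_inv_cancel]
    rw [eq_inv_iff_mul_eq_one]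
    have h4 : t * g * t⁻¹ * g = g⁻¹ * (g * t * g * t⁻¹) * g := by group
    rw [h4, this]; group
  have h5 : κ⁻¹ * t * g = g * (κ⁻¹ * t) := by
    have h6 : κ⁻¹ * t * g = κ⁻¹ * (t * g * t⁻¹) * t := by group
    rw [h6, h3, ← h2]; group
  have h7 : κ⁻¹ * t ∈ Hh := Hh.mul_mem (Hh.inv_mem (K0_le k.2)) ht
  have h8 : κ⁻¹ * t ∉ K0 := fun h9 => tau_notMem hti ((K0.mul_mem_cancel_left (K0.inv_mem k.2)).1 h9)
  have h9 := two_mul_le K0_le (x := g) h7 h8 h5
  rw [card_cent_K, ← hg] at hm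
  omega

theorem le_cent_of_order {g z : ↥K0} (h : z * g = g * z) : orderOf z ≤ Nat.card (centralizer ({g} : Set ↥K0)) := by
  rw [← Nat.card_zpowers]
  refine Nat.le_of_dvd Nat.card_pos (Subgroup.card_dvd_of_le ?_)
  rw [zpowers_le, mem_centralizer_singleton_iff]
  exact h

theorem order_gs {i : Fin 18} {k : ℕ} (hk : 0 < k) (h1 : chkPow 275 (XT i) k = true)
    (h2 : ∀ p ∈ k.primeFactors, chkPow 275 (XT i) (k / p) = false) : orderOf (gs i) = k := by
  apply orderOf_eq_of_pow_and_pow_div_prime hk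
  · exact Subtype.ext (pow_of_chk (gs_spec i) h1)
  · intro p hp hpk h3
    have h4 := h2 p (Nat.mem_primeFactors.2 ⟨hp, hpk, hk.ne'⟩)
    have h5 : chkPow 275 (XT i) (k / p) = true := by
      rw [chkPow, allB_iff]
      intro j hj
      have h6 := it_eq (gs_spec i) (k / p) ⟨j, hj⟩
      change it (XT i) (k / p) j = _ at h6
      rw [h6, ← Subgroup.coe_pow, h3]
      exact Nat.beq_refl _
    rw [h4] at h5
    exact absurd h5 (by decide)

theorem order_14 : orderOf (gs 15) = 14 := order_gs (by norm_num) (by decide +kernel) (by decide +kernel)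
theorem order_30 : orderOf (gs 17) = 30 := order_gs (by norm_num) (by decide +kernel) (by decide +kernel)
theorem order_9 : orderOf (gs 11) = 9 := order_gs (by norm_num) (by decide +kernel) (by decide +kernel)
theorem order_11 : orderOf (gs 13) = 11 := order_gs (by norm_num) (by decide +kernel) (by decide +kernel)

theorem comm_gs {i j : Fin 18} (h : chkComm 275 (XT i) (XT j) = true) : gs i * gs j = gs j * gs i :=
  Subtype.ext (comm_of_chk (gs_spec i) (gs_spec j) h)

theorem hcard {i : Fin 18} {D b : ℕ} {L : List Stp} (h : chk 275 adjM (XT i) D L 0 = true) (hb : bnd L = b) {m : ℕ}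
    (hm : b < m) : Nat.card ↥(autG 275 adjM ⊓ centralizer ({(gs i : Perm (Fin 275))} : Set (Perm (Fin 275)))) < m :=
  lt_of_le_of_lt (card_cent_le (gs_spec i) h hb) hm

theorem nonreal_7 : ¬ IsConj (gs 9) (gs 9)⁻¹ :=
  nonreal_of (m := 14) (by decide +kernel) (by
    rw [← order_14]; exact le_cent_of_order (comm_gs (by decide +kernel))) (hcard (i := 9) chk7A bnd7A (by norm_num))

theorem nonreal_14 : ¬ IsConj (gs 15) (gs 15)⁻¹ :=
  nonreal_of (m := 14) (by decide +kernel) (by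
    rw [← order_14]; exact le_cent_of_order rfl) (hcard (i := 15) chk14A bnd14A (by norm_num))

theorem nonreal_15 : ¬ IsConj (gs 16) (gs 16)⁻¹ :=
  nonreal_of (m := 30) (by decide +kernel) (by
    rw [← order_30]; exact le_cent_of_order (comm_gs (by decide +kernel))) (hcard (i := 16) chk15A bnd15A (by norm_num))

theorem nonreal_30 : ¬ IsConj (gs 17) (gs 17)⁻¹ :=
  nonreal_of (m := 30) (by decide +kernel) (by
    rw [← order_30]; exact le_cent_of_order rfl) (hcard (i := 17) chk30A bnd30A (by norm_num))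

theorem cent_nine : 18 ≤ Nat.card (centralizer ({gs 11} : Set ↥K0)) := by
  obtain ⟨u, hu, hui⟩ := exists_u9
  have hu3 : u ^ 3 = 1 := pow_of_chk hui (by decide +kernel)
  have huK : u ∈ K0 := by
    have h1 : u * u ∈ K0 := (two.mul_mem_iff hu hu).2 Iff.rfl
    have h2 : u = (u * u) * (u * u) := by
      have : u * u * (u * u) = u ^ 3 * u := by simp only [pow_succ, pow_zero, one_mul, mul_assoc]
      rw [this, hu3, one_mul]
    rw [h2]
    exact K0.mul_mem h1 h1
  have huc : u * (gs 11 : Perm (Fin 275)) = gs 11 * u := comm_of_chk hui (gs_spec 11) (by decide +kernel)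
  have hlt : zpowers (gs 11) < centralizer ({gs 11} : Set ↥K0) := by
    refine lt_of_le_of_ne ?_ fun h => ?_
    · rw [zpowers_le, mem_centralizer_singleton_iff]
    · have h1 : (⟨u, huK⟩ : ↥K0) ∈ centralizer ({gs 11} : Set ↥K0) :=
        mem_centralizer_singleton_iff.2 (Subtype.ext huc)
      rw [← h, mem_zpowers_iff_mem_range_orderOf, Finset.mem_image] at h1
      obtain ⟨e, he, hue⟩ := h1
      rw [order_9, Finset.mem_range] at he
      have h2 : ((gs 11 : Perm (Fin 275)) ^ e) = u := congrArg Subtype.val hue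
      have h3 : ∀ e < 9, ∃ i : Fin 275, it (XT 11) e i ≠ lk u9 i := by decide +kernel
      obtain ⟨i, hi⟩ := h3 e he
      apply hi
      rw [it_eq (gs_spec 11), h2, hui]
  obtain ⟨m, hm⟩ := Subgroup.card_dvd_of_le hlt.le
  rw [Nat.card_zpowers, order_9] at hm
  have h2 : m ≠ 0 := by
    rintro rfl
    rw [mul_zero] at hm
    exact Nat.card_pos.ne' hm
  have h3 : m ≠ 1 := by
    rintro rfl
    apply hlt.ne
    apply Subgroup.eq_of_le_of_card_ge hlt.le
    rw [hm, Nat.card_zpowers, order_9]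
  omega

theorem nonreal_9 : ¬ IsConj (gs 11) (gs 11)⁻¹ :=
  nonreal_of (m := 18) (by decide +kernel) cent_nine (hcard (i := 11) chk9A bnd9A (by norm_num))

theorem nonreal_11 : ¬ IsConj (gs 13) (gs 13)⁻¹ := by
  intro h
  obtain ⟨k, hk⟩ := isConj_iff.1 h
  set g := gs 13 with hg
  have hP : Nat.card (zpowers g) = 11 := by rw [Nat.card_zpowers]; exact order_11
  obtain ⟨-, hN⟩ := eleven iso_K0 (zpowers g) hP
  have hkN : k ∈ normalizer (zpowers g : Set ↥K0) := by
    rw [Subgroup.mem_normalizer_iff]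
    intro z
    rw [mem_zpowers_iff, mem_zpowers_iff]
    constructor
    · rintro ⟨e, rfl⟩
      refine ⟨-e, ?_⟩
      rw [← conj_zpow, hk, inv_zpow, zpow_neg]
    · rintro ⟨e, he⟩
      refine ⟨-e, ?_⟩
      have h1 : k * g ^ (-e) * k⁻¹ = k * z * k⁻¹ := by
        rw [← conj_zpow, hk, ← he, inv_zpow, zpow_neg, inv_inv]
      simpa using h1
  have hk55 : k ^ 55 = 1 := by
    have := pow_card_eq_one' (x := (⟨k, hkN⟩ : normalizer (zpowers g : Set ↥K0)))
    rw [hN] at this
    exact congrArg Subtype.val this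
  have hpow : ∀ m : ℕ, k ^ (2 * m) * g * (k ^ (2 * m))⁻¹ = g := by
    intro m
    induction m with
    | zero => simp
    | succ m ih =>
      have e1 : k ^ (2 * (m + 1)) * g * (k ^ (2 * (m + 1)))⁻¹ = k * (k * (k ^ (2 * m) * g * (k ^ (2 * m))⁻¹) * k⁻¹) * k⁻¹ := by
        rw [show 2 * (m + 1) = 1 + (1 + 2 * m) by ring, pow_add, pow_add, pow_one]
        group
      rw [e1, ih, hk]
      have e2 : k * g⁻¹ * k⁻¹ = (k * g * k⁻¹)⁻¹ := by group
      rw [e2, hk, inv_inv]
  have h1 := hpow 27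
  have h2 : k ^ 55 * g * (k ^ 55)⁻¹ = g⁻¹ := by
    have e1 : k ^ 55 * g * (k ^ 55)⁻¹ = k * (k ^ (2 * 27) * g * (k ^ (2 * 27))⁻¹) * k⁻¹ := by
      rw [show 55 = 1 + 2 * 27 by norm_num, pow_add, pow_one]
      group
    rw [e1, h1, hk]
  rw [hk55] at h2
  have h3 : g = g⁻¹ := by simpa using h2
  have h4 : g ^ 2 = 1 := by
    rw [pow_two]
    nth_rewrite 2 [h3]
    exact mul_inv_cancel g
  have h5 := orderOf_dvd_of_pow_eq_one h4
  rw [order_11] at h5
  exact absurd h5 (by norm_num)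

/-- the rational class -/
def rc (j : Fin 24) : Fin 18 := [0, 1, 2, 3, 4, 5, 6, 7, 8, 9, 10, 11, 12, 13, 14, 15, 16, 17, 9, 11, 13, 15, 16, 17].getD j 0

/-- representatives of the 24 classes -/
noncomputable def xs (j : Fin 24) : ↥K0 := if (j : ℕ) < 18 then gs (rc j) else (gs (rc j))⁻¹

/-- the centralizer orders -/
def cc (j : Fin 24) : ℕ := cs (rc j)

theorem xs_cent (j : Fin 24) : centralizer ({xs j} : Set ↥K0) = centralizer ({gs (rc j)} : Set ↥K0) := by
  unfold xs
  split_ifs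
  · rfl
  · ext c
    rw [mem_centralizer_singleton_iff, mem_centralizer_singleton_iff]
    exact ⟨fun h => by simpa using (Commute.inv_right (show Commute c _ from h)).eq,
      fun h => (Commute.inv_right (show Commute c _ from h)).eq⟩

theorem FP_xs (j : Fin 24) (e : Fin 12) :
    FP (EX.getD e 0) (xs j : Perm (Fin 275)) = (fpt.getD (rc j) []).getD e 0 := by
  rw [← FP_gs]
  unfold xs
  split_ifs
  · rfl
  · exact FP_inv _ _

/-- The four numbers determine the rational class. -/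
theorem rc_unique : ∀ i j : Fin 18, (fpt.getD i []).getD 0 0 = (fpt.getD j []).getD 0 0 →
    (fpt.getD i []).getD 1 0 = (fpt.getD j []).getD 1 0 → (fpt.getD i []).getD 4 0 = (fpt.getD j []).getD 4 0 →
    (fpt.getD i []).getD 7 0 = (fpt.getD j []).getD 7 0 → i = j := by decide +kernel

theorem rc_eq_of_conj {i j : Fin 24} (h : IsConj (xs i) (xs j)) : rc i = rc j := by
  have h1 : ∀ e : Fin 12, (fpt.getD (rc i) []).getD e 0 = (fpt.getD (rc j) []).getD e 0 := by
    intro e
    rw [← FP_xs, ← FP_xs]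
    exact FP_conj _ (coe_conj h)
  exact rc_unique _ _ (h1 0) (h1 1) (h1 4) (h1 7)

theorem not_conj_inv {i : Fin 18} (h : i = 9 ∨ i = 11 ∨ i = 13 ∨ i = 15 ∨ i = 16 ∨ i = 17) :
    ¬ IsConj (gs i) (gs i)⁻¹ := by
  rcases h with rfl | rfl | rfl | rfl | rfl | rfl
  · exact nonreal_7
  · exact nonreal_9
  · exact nonreal_11
  · exact nonreal_14
  · exact nonreal_15
  · exact nonreal_30

theorem comb : ∀ i j : Fin 24, rc i = rc j → i = j ∨
    ((rc i = 9 ∨ rc i = 11 ∨ rc i = 13 ∨ rc i = 15 ∨ rc i = 16 ∨ rc i = 17) ∧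
      (((i : ℕ) < 18 ∧ ¬ (j : ℕ) < 18) ∨ ((j : ℕ) < 18 ∧ ¬ (i : ℕ) < 18))) := by decide +kernel

theorem xs_inj (i j : Fin 24) (h : IsConj (xs i) (xs j)) : i = j := by
  have h1 := rc_eq_of_conj h
  rcases comb i j h1 with h2 | ⟨h2, h3⟩
  · exact h2
  · exfalso
    apply not_conj_inv h2
    rcases h3 with ⟨h3, h4⟩ | ⟨h3, h4⟩
    · unfold xs at h
      rw [if_pos h3, if_neg h4, ← h1] at h
      exact h
    · unfold xs at h
      rw [if_pos h3, if_neg h4, ← h1] at h
      exact h.symm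

theorem sum_chk : (∑ j : Fin 24, 898128000 / cc j) = 898128000 ∧ ∀ j : Fin 24, cc j ∣ 898128000 ∧ 0 < cc j := by
  decide +kernel

theorem classes : (∀ g : ↥K0, ∃ j, IsConj (xs j) g) ∧
    ∀ j, Nat.card (centralizer ({xs j} : Set ↥K0)) = cc j := by
  refine cover_of_sum xs cc (fun j => ?_) (fun j => (sum_chk.2 j).2) xs_inj ?_ ?_
  · rw [xs_cent]
    exact cent_le _
  · rw [card_K0]
    exact sum_chk.1.ge
  · rw [card_K0]
    exact fun j => (sum_chk.2 j).1

/-- `McL` has 24 classes. -/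
theorem card_classes : Nat.card (ConjClasses ↥K0) = 24 := by
  have h : Function.Bijective fun j : Fin 24 => ConjClasses.mk (xs j) := by
    constructor
    · intro i j h
      exact xs_inj i j (ConjClasses.mk_eq_mk_iff_isConj.1 h)
    · intro c
      obtain ⟨g, rfl⟩ := ConjClasses.mk_surjective c
      obtain ⟨j, hj⟩ := classes.1 g
      exact ⟨j, ConjClasses.mk_eq_mk_iff_isConj.2 hj⟩
  rw [← Nat.card_congr (Equiv.ofBijective _ h), Nat.card_eq_fintype_card, Fintype.card_fin]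

/-- power maps on the rational classes: exponents 2, 3, 5 -/
def pw2 (i : Fin 18) : Fin 18 := [0, 0, 2, 3, 1, 5, 6, 2, 3, 9, 4, 11, 5, 13, 7, 9, 16, 16].getD i 0
def pw3 (i : Fin 18) : Fin 18 := [0, 1, 0, 0, 4, 5, 6, 1, 1, 9, 10, 2, 12, 13, 4, 15, 5, 12].getD i 0
def pw5 (i : Fin 18) : Fin 18 := [0, 1, 2, 3, 4, 0, 0, 7, 8, 9, 10, 11, 1, 13, 14, 15, 2, 7].getD i 0

theorem power_of (a : ℕ) (pw : Fin 18 → Fin 18) (f : Fin 4 → Fin 12)
    (hf : ∀ b : Fin 4, EX.getD (f b) 0 = a * EX.getD (([0, 1, 4, 7] : List (Fin 12)).getD b 0) 0)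
    (h : ∀ (i : Fin 18) (b : Fin 4), (fpt.getD i []).getD (f b) 0 =
      (fpt.getD (pw i) []).getD (([0, 1, 4, 7] : List (Fin 12)).getD b 0) 0) (i : Fin 24) :
    ∃ j, IsConj (xs j) (xs i ^ a) ∧ rc j = pw (rc i) := by
  obtain ⟨j, hj⟩ := classes.1 (xs i ^ a)
  refine ⟨j, hj, ?_⟩
  have h1 : ∀ b : Fin 4, (fpt.getD (rc j) []).getD (([0, 1, 4, 7] : List (Fin 12)).getD b 0) 0 =
      (fpt.getD (pw (rc i)) []).getD (([0, 1, 4, 7] : List (Fin 12)).getD b 0) 0 := by
    intro b
    rw [← h, ← FP_xs j, ← FP_xs i, hf, FP_conj _ (coe_conj hj), Subgroup.coe_pow, FP_pow]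
  exact rc_unique _ _ (h1 0) (h1 1) (h1 2) (h1 3)

theorem power2 (i : Fin 24) : ∃ j, IsConj (xs j) (xs i ^ 2) ∧ rc j = pw2 (rc i) :=
  power_of 2 pw2 (fun b => ([1, 3, 6, 9] : List (Fin 12)).getD b 0) (by decide +kernel) (by decide +kernel) i

theorem power3 (i : Fin 24) : ∃ j, IsConj (xs j) (xs i ^ 3) ∧ rc j = pw3 (rc i) :=
  power_of 3 pw3 (fun b => ([2, 5, 7, 10] : List (Fin 12)).getD b 0) (by decide +kernel) (by decide +kernel) i

theorem power5 (i : Fin 24) : ∃ j, IsConj (xs j) (xs i ^ 5) ∧ rc j = pw5 (rc i) :=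
  power_of 5 pw5 (fun b => ([4, 6, 8, 11] : List (Fin 12)).getD b 0) (by decide +kernel) (by decide +kernel) i

end Cfsg.Agent.H359.CT.McL
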