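import Cfsg.Agent.H359.CT.McLClass
import Cfsg.Agent.H447.CTabLam

/-!
# The rank 3 graph on 275 points and the character of degree 22 of the McLaughlin group
-/

set_option autoImplicit false
set_option maxRecDepth 100000

namespace Cfsg.Agent.H359.CT.McL

open Cfsg Equiv Subgroup Cfsg.Agent.H359.CT Cfsg.Agent.H904.McLCent Cfsg.Agent.McLType.X275
  Cfsg.Agent.McLType.Gens Cfsg.Agent.SporadicA.PermTab Cfsg.Agent.H447.CTab
  Cfsg.Agent.SporadicStructure.PermChain

universe u

/-! ### transitivity -/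

theorem exists_move (y : Fin 275) : ∃ g ∈ K0, g 0 = y := by
  have h1 : MaskIn K0 (0 : Fin 275) mask0 := by
    rw [← Nat.eq_of_beq_eq_true orb0]
    exact maskIn_grow K0 0 _ inK0 _ _ (maskIn_single K0 0)
  have h2 : ∀ y : Fin 275, Nat.testBit mask0 y = true := by decide +kernel
  obtain ⟨_, g, hg, hgy⟩ := h1 y (h2 y)
  exact ⟨g, hg, hgy⟩

/-- adjacency -/
def adj (i j : Fin 275) : Prop := bitM 275 adjM i j = 1

instance : DecidableRel adj := fun i j => inferInstanceAs (Decidable (bitM 275 adjM i j = 1))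

theorem adj_iff {g : Perm (Fin 275)} (hg : g ∈ K0) (i j : Fin 275) : adj (g i) (g j) ↔ adj i j := by
  unfold adj
  rw [mem_autG.1 (K0_le hg) i j]

theorem card_adj (g : Perm (Fin 275)) (p : Fin 275 → Prop) [DecidablePred p]
    (q : Fin 275 → Prop) [DecidablePred q] (h : ∀ i, q (g i) ↔ p i) :
    (Finset.univ.filter p).card = (Finset.univ.filter q).card := by
  refine Finset.card_equiv g fun i => ?_
  simp only [Finset.mem_filter, Finset.mem_univ, true_and]
  exact (h i).symm

def bB (i j : ℕ) : Bool := Nat.beq (bitM 275 adjM i j) 1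

theorem bB_iff (i j : Fin 275) : bB i j = true ↔ adj i j := by
  unfold bB adj
  rw [Nat.beq_eq]

theorem k_chk : cntB (fun j => bB 0 j) 275 112 = true := by decide +kernel
theorem symm_chk : allB (fun j => bB 0 j == bB j 0) 275 = true := by decide +kernel
theorem irr_chk : bB 0 0 = false := by decide +kernel
theorem com_chk : allB (fun j => Nat.beq j 0 || bif bB 0 j then cntB (fun i => bB 0 i && bB i j) 275 30 else
    cntB (fun i => bB 0 i && bB i j) 275 56) 275 = true := by decide +kernel

theorem adj_zero_symm (j : Fin 275) : adj 0 j ↔ adj j 0 := by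
  have h := (allB_iff _ _).1 symm_chk j j.2
  rw [beq_iff_eq] at h
  have h1 : bB ((0 : Fin 275) : ℕ) j = bB j ((0 : Fin 275) : ℕ) := h
  rw [← bB_iff, ← bB_iff, h1]

theorem adj_symm {x y : Fin 275} (h : adj x y) : adj y x := by
  obtain ⟨g, hg, rfl⟩ := exists_move x
  obtain ⟨z, rfl⟩ := g.surjective y
  rw [adj_iff hg] at h ⊢
  exact (adj_zero_symm z).1 h

theorem adj_comm (x y : Fin 275) : adj x y ↔ adj y x := ⟨adj_symm, adj_symm⟩

theorem adj_irr (x : Fin 275) : ¬ adj x x := by
  obtain ⟨g, hg, rfl⟩ := exists_move x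
  rw [adj_iff hg, ← bB_iff]
  have h := irr_chk
  intro h1
  have h2 : bB 0 0 = true := h1
  rw [h] at h2
  exact absurd h2 (by decide)

theorem adj_card (x : Fin 275) : (Finset.univ.filter fun y => adj x y).card = 112 := by
  obtain ⟨g, hg, rfl⟩ := exists_move x
  rw [← card_adj g (fun y => adj 0 y) (fun y => adj (g 0) y) (fun i => adj_iff hg _ _),
    ← card_fin_of_cntB _ _ _ k_chk]
  congr 1

theorem adj_com (x y : Fin 275) (hxy : x ≠ y) : (Finset.univ.filter fun z => adj x z ∧ adj z y).card =
    if adj x y then 30 else 56 := by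
  obtain ⟨g, hg, rfl⟩ := exists_move x
  obtain ⟨y, rfl⟩ := g.surjective y
  rw [← card_adj g (fun z => adj 0 z ∧ adj z y) (fun z => adj (g 0) z ∧ adj z (g y))
    (fun i => by rw [adj_iff hg, adj_iff hg])]
  have hy : (y : ℕ) ≠ 0 := by
    intro h
    exact hxy (congrArg g (Fin.ext h.symm))
  have h := (allB_iff _ _).1 com_chk y y.2
  have hy' : Nat.beq (y : ℕ) 0 = false := by
    cases h0 : Nat.beq (y : ℕ) 0
    · rfl
    · exact absurd (Nat.eq_of_beq_eq_true h0) hy
  rw [hy', Bool.false_or] at h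
  have e1 : (Finset.univ.filter fun z : Fin 275 => adj 0 z ∧ adj z y) =
      Finset.univ.filter fun z : Fin 275 => (bB 0 z && bB z y) = true := by
    ext z
    simp only [Finset.mem_filter, Finset.mem_univ, true_and]
    rw [Bool.and_eq_true, bB_iff z y]
    exact and_congr_left fun _ => (bB_iff 0 z).symm
  have e2 : adj (g 0) (g y) ↔ bB 0 y = true := by
    rw [adj_iff hg]
    exact (bB_iff 0 y).symm
  rw [e1]
  cases hb : bB 0 (y : ℕ)
  · rw [hb, cond_false] at h
    rw [if_neg (by rw [e2, hb]; decide)]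
    exact card_fin_of_cntB _ _ _ h
  · rw [hb, cond_true] at h
    rw [if_pos (by rw [e2, hb])]
    exact card_fin_of_cntB _ _ _ h

/-! ### the number of vertices adjacent to their image -/

/-- the number of vertices adjacent to their image -/
def FO (g : Perm (Fin 275)) : ℕ := (Finset.univ.filter fun i => adj i (g i)).card

def fo : List ℕ := [0, 0, 270, 18, 64, 200, 60, 30, 114, 84, 112, 84, 80, 110, 142, 140, 110, 170]

theorem fo_chk : ∀ i : Fin 18, cntB (fun j => bB j (lk (XT i) j)) 275 (fo.getD i 0) = true := by decide +kernel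

theorem FO_gs (i : Fin 18) : FO (gs i : Perm (Fin 275)) = fo.getD i 0 := by
  rw [← card_fin_of_cntB _ _ _ (fo_chk i)]
  unfold FO
  congr 1
  ext j
  simp only [Finset.mem_filter, Finset.mem_univ, true_and]
  rw [← bB_iff, gs_spec]

theorem FO_inv (g : Perm (Fin 275)) : FO g⁻¹ = FO g := by
  unfold FO
  refine Finset.card_equiv g⁻¹ fun i => ?_
  simp only [Finset.mem_filter, Finset.mem_univ, true_and]
  rw [adj_comm]
  simp

theorem FO_xs (j : Fin 24) : FO (xs j : Perm (Fin 275)) = fo.getD (rc j) 0 := by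
  rw [← FO_gs]
  unfold xs
  split_ifs
  · rfl
  · exact FO_inv _

/-! ### Class list of an arbitrary copy -/

section copy

variable {G : Type u} [Group G] [Finite G] (e : G ≃* ↥K0)

omit [Finite G] in
theorem isConj_symm_iff {a b : ↥K0} : IsConj (e.symm a) (e.symm b) ↔ IsConj a b := by
  constructor
  · intro h
    have := e.toMonoidHom.map_isConj h
    simpa using this
  · intro h
    have := e.symm.toMonoidHom.map_isConj h
    simpa using this

/-- the class list -/
noncomputable def clT : ClassTab G 24 where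
  x i := e.symm (xs i)
  c := cc
  cover g := by
    obtain ⟨j, hj⟩ := classes.1 (e g)
    refine ⟨j, ?_⟩
    have := (isConj_symm_iff e).2 hj
    simpa using this
  inj i j h := xs_inj i j ((isConj_symm_iff e).1 h)
  card i := by
    rw [← classes.2 i]
    refine Nat.card_congr
      { toFun := fun c => ⟨e c.1, ?_⟩
        invFun := fun c => ⟨e.symm c.1, ?_⟩
        left_inv := fun c => by simp
        right_inv := fun c => by simp }
    · rw [mem_centralizer_singleton_iff]
      have := mem_centralizer_singleton_iff.1 c.2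
      have h := congrArg e this
      simpa using h
    · rw [mem_centralizer_singleton_iff]
      have := mem_centralizer_singleton_iff.1 c.2
      rw [← map_mul, ← map_mul, this]

omit [Finite G] in
include e in
theorem card_G : Nat.card G = 898128000 := by rw [Nat.card_congr e.toEquiv, card_K0]

theorem pow_of (a : ℕ) (pw : Fin 18 → Fin 18) (h : ∀ i : Fin 24, ∃ j, IsConj (xs j) (xs i ^ a) ∧ rc j = pw (rc i))
    (i : Fin 24) : ∃ j, IsConj ((clT e).x j) ((clT e).x i ^ a) ∧ rc j = pw (rc i) := by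
  obtain ⟨j, hj, hj'⟩ := h i
  refine ⟨j, ?_, hj'⟩
  have := (isConj_symm_iff e).2 hj
  rw [map_pow] at this
  exact this

theorem p2 (i : Fin 24) : ∃ j, IsConj ((clT e).x j) ((clT e).x i ^ 2) ∧ rc j = pw2 (rc i) := pow_of e 2 pw2 power2 i
theorem p3 (i : Fin 24) : ∃ j, IsConj ((clT e).x j) ((clT e).x i ^ 3) ∧ rc j = pw3 (rc i) := pow_of e 3 pw3 power3 i
theorem p5 (i : Fin 24) : ∃ j, IsConj ((clT e).x j) ((clT e).x i ^ 5) ∧ rc j = pw5 (rc i) := pow_of e 5 pw5 power5 i

/-- vectors -/
def vec (l : List ℤ) (j : Fin 18) : ℤ := l.getD j 0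

def l22 : List ℤ := [22, 6, -5, 4, 2, -3, 2, 3, 0, 1, 0, 1, 1, 0, -1, -1, 0, -2]

theorem chk22 : ∀ i : Fin 24, ((2 : ℤ) - -28) * vec l22 (rc i) =
    ((112 : ℕ) : ℤ) + 2 * ((((fpt.getD (rc i) []).getD 0 0 : ℕ) : ℤ) - 1) - ((fo.getD (rc i) 0 : ℕ) : ℤ) := by
  decide +kernel

theorem g22 : GC (clT e) rc (vec l22) := by
  let _ : MulAction G (Fin 275) := MulAction.compHom (Fin 275) (K0.subtype.comp e.toMonoidHom)
  have hs : ∀ (g : G) (x : Fin 275), g • x = (e g : Perm (Fin 275)) x := fun _ _ => rfl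
  refine GC.srg (X := Fin 275) adj (fun g x y => ?_) (fun x y h => adj_symm h) adj_irr (k0 := 112) (lam := 30)
    (mu := 56) adj_card (fun x y h => ?_) (fun x y h h' => ?_) (θ := 2) (τ := -28) (by norm_num) (by norm_num)
    (by norm_num) (fun i => ?_)
  · rw [hs, hs]
    exact adj_iff (e g).2 x y
  · rw [adj_com x y (by rintro rfl; exact adj_irr _ h), if_pos h]
  · rw [adj_com x y h, if_neg h']
  · rw [chk22 i]
    have h1 : Nat.card (MulAction.fixedBy (Fin 275) ((clT e).x i)) = (fpt.getD (rc i) []).getD 0 0 := by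
      have h0 : FP 1 (xs i : Perm (Fin 275)) = (fpt.getD (rc i) []).getD 0 0 := FP_xs i 0
      rw [← h0]
      unfold FP
      rw [← Fintype.card_subtype, ← Nat.card_eq_fintype_card]
      refine Nat.card_congr (Equiv.subtypeEquivRight fun x => ?_)
      rw [MulAction.mem_fixedBy, hs]
      show (e (e.symm (xs i)) : Perm (Fin 275)) x = x ↔ ((xs i : Perm (Fin 275)) ^ 1) x = x
      rw [e.apply_symm_apply, pow_one]
    have h2 : (Finset.univ.filter fun x => adj x ((clT e).x i • x)).card = fo.getD (rc i) 0 := by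
      rw [← FO_xs i]
      unfold FO
      congr 1
      ext x
      simp only [Finset.mem_filter, Finset.mem_univ, true_and]
      rw [hs]
      show adj x ((e (e.symm (xs i)) : Perm (Fin 275)) x) ↔ _
      rw [e.apply_symm_apply]
    rw [h1, h2]

end copy

end Cfsg.Agent.H359.CT.McL
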