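import Cfsg.Agent.H359.CT.Chain
import Cfsg.Agent.H359.CT.Abs

/-!
# Tables of elements with their parity (in a group `H` of permutations with a subgroup `K` of index two)
-/

set_option autoImplicit false

namespace Cfsg.Agent.H359.CT

open Equiv Cfsg.Agent.SporadicA.PermTab Subgroup

variable {n : ℕ}

/-- `P` is the table of an element of `H`, in `K` iff `b`. -/
def PT (K H : Subgroup (Perm (Fin n))) (b : Bool) (P : ℕ) : Prop :=
  ∃ g ∈ H, (g ∈ K ↔ b = true) ∧ ∀ i : Fin n, (g i : ℕ) = lk P i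

/-- products of two elements outside `K` are in `K` -/
def Two (K H : Subgroup (Perm (Fin n))) : Prop := K ≤ H ∧ ∀ a ∈ H, ∀ b ∈ H, a ∉ K → b ∉ K → a * b ∈ K

theorem Two.mul_mem_iff {K H : Subgroup (Perm (Fin n))} (h : Two K H) {a b : Perm (Fin n)} (ha : a ∈ H)
    (hb : b ∈ H) : a * b ∈ K ↔ (a ∈ K ↔ b ∈ K) := by
  by_cases h1 : a ∈ K <;> by_cases h2 : b ∈ K
  · exact ⟨fun _ => ⟨fun _ => h2, fun _ => h1⟩, fun _ => K.mul_mem h1 h2⟩
  · refine ⟨fun h3 => ?_, fun h3 => absurd (h3.1 h1) h2⟩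
    exact absurd ((K.mul_mem_cancel_left h1).1 h3) h2
  · refine ⟨fun h3 => ?_, fun h3 => absurd (h3.2 h2) h1⟩
    exact absurd ((K.mul_mem_cancel_right h2).1 h3) h1
  · exact ⟨fun _ => ⟨fun h4 => absurd h4 h1, fun h4 => absurd h4 h2⟩, fun _ => h.2 a ha b hb h1 h2⟩

theorem Two.of_card {K H : Subgroup (Perm (Fin n))} (hKH : K ≤ H) (h : Nat.card H ≤ 2 * Nat.card K) : Two K H := by
  refine ⟨hKH, fun a ha b hb haK hbK => ?_⟩
  by_cases hH : K = H
  · exact absurd (by rw [hH]; exact ha) haK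
  · obtain ⟨m, hm⟩ := Subgroup.card_dvd_of_le hKH
    have hKpos : 0 < Nat.card K := Nat.card_pos
    have hHpos : 0 < Nat.card H := Nat.card_pos
    have h2 : m = 2 := by
      have h3 : m ≠ 0 := by rintro rfl; rw [mul_zero] at hm; omega
      have h4 : m ≠ 1 := by
        rintro rfl
        rw [mul_one] at hm
        exact hH (Subgroup.eq_of_le_of_card_ge hKH hm.le)
      have h5 : m ≤ 2 := by
        rw [hm, mul_comm] at h
        exact Nat.le_of_mul_le_mul_right h hKpos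
      omega
    have h6 : (K.subgroupOf H).index = 2 := by
      have h7 := (K.subgroupOf H).card_mul_index
      rw [Nat.card_congr (Subgroup.subgroupOfEquivOfLe hKH).toEquiv, hm, h2] at h7
      exact Nat.eq_of_mul_eq_mul_left hKpos h7
    have h8 := (Subgroup.mul_mem_iff_of_index_two h6 (a := ⟨a, ha⟩) (b := ⟨b, hb⟩)).2
      ⟨fun h9 => absurd (Subgroup.mem_subgroupOf.1 h9) haK, fun h9 => absurd (Subgroup.mem_subgroupOf.1 h9) hbK⟩
    exact Subgroup.mem_subgroupOf.1 h8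

theorem PT.of_inG {K H : Subgroup (Perm (Fin n))} (hKH : K ≤ H) {P : ℕ} (h : InG K P) : PT K H true P := by
  obtain ⟨g, hg, hgi⟩ := h
  exact ⟨g, hKH hg, by simp [hg], hgi⟩

theorem PT.inG {K H : Subgroup (Perm (Fin n))} {P : ℕ} (h : PT K H true P) : InG K P := by
  obtain ⟨g, -, hg, hgi⟩ := h
  exact ⟨g, hg.2 rfl, hgi⟩

theorem PT.exists_ev {K H : Subgroup (Perm (Fin n))} (h2 : Two K H) (L : List (ℕ × Bool))
    (h : ∀ q ∈ L, PT K H q.2 q.1) : ∃ g ∈ H, (g ∈ K ↔ L.foldr (fun q b => q.2 == b) true = true) ∧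
      ∀ i : Fin n, (g i : ℕ) = ev (L.map Prod.fst) i := by
  induction L with
  | nil => exact ⟨1, H.one_mem, by simp [K.one_mem], fun i => rfl⟩
  | cons q L ih =>
    obtain ⟨g, hg, hgK, hgi⟩ := ih (fun Q hQ => h Q (List.mem_cons_of_mem _ hQ))
    obtain ⟨k, hk, hkK, hki⟩ := h q List.mem_cons_self
    refine ⟨g * k, H.mul_mem hg hk, ?_, fun i => ?_⟩
    · rw [h2.mul_mem_iff hg hk, hgK, hkK, List.foldr_cons, beq_iff_eq]
      cases q.2 <;> cases (List.foldr (fun q b => q.2 == b) true L) <;> simp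
    · rw [List.map_cons, ev_cons, ← hki i, ← hgi (k i)]
      rfl

theorem PT.word {K H : Subgroup (Perm (Fin n))} (h2 : Two K H) (L : List (ℕ × Bool))
    (h : ∀ q ∈ L, PT K H q.2 q.1) {S : ℕ} (hS : chkWord n S (L.map Prod.fst) = true) {b : Bool}
    (hb : L.foldr (fun q b => q.2 == b) true = b) : PT K H b S := by
  obtain ⟨g, hg, hgK, hgi⟩ := PT.exists_ev h2 L h
  refine ⟨g, hg, by rw [hgK, hb], fun i => ?_⟩
  rw [hgi i]
  exact (Nat.eq_of_beq_eq_true ((allB_iff _ _).1 hS i i.2)).symm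

/-! ### checks -/

/-- `P Q = Q P` -/
def chkComm (n P Q : ℕ) : Bool := allB (fun i => Nat.beq (lk P (lk Q i)) (lk Q (lk P i))) n

/-- `X T X = T` -/
def chkInvert (n X T : ℕ) : Bool := allB (fun i => Nat.beq (lk X (lk T (lk X i))) (lk T i)) n

/-- iterates -/
def it (P k i : ℕ) : ℕ := Nat.rec i (fun _ p => lk P p) k

/-- `P ^ k` has `m` fixed points -/
def chkFP (n P k m : ℕ) : Bool := cntB (fun i => Nat.beq (it P k i) i) n m

/-- `P ^ k = 1` -/
def chkPow (n P k : ℕ) : Bool := allB (fun i => Nat.beq (it P k i) i) n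

/-- the number of fixed points of `g ^ k` -/
def FP (k : ℕ) (g : Perm (Fin n)) : ℕ := (Finset.univ.filter fun i : Fin n => (g ^ k) i = i).card

theorem it_eq {g : Perm (Fin n)} {P : ℕ} (h : ∀ i : Fin n, (g i : ℕ) = lk P i) (k : ℕ) (i : Fin n) :
    it P k i = ((g ^ k) i : Fin n) := by
  induction k with
  | zero => rfl
  | succ k ih =>
    change lk P (it P k i) = _
    rw [ih, pow_succ', Perm.mul_apply, h]

theorem FP_eq {g : Perm (Fin n)} {P : ℕ} (h : ∀ i : Fin n, (g i : ℕ) = lk P i) {k m : ℕ}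
    (hc : chkFP n P k m = true) : FP k g = m := by
  rw [← card_fin_of_cntB _ _ _ hc]
  unfold FP
  congr 1
  ext i
  simp only [Finset.mem_filter, Finset.mem_univ, true_and]
  rw [it_eq h, Nat.beq_eq]
  exact Fin.ext_iff

theorem FP_conj (k : ℕ) {a b : Perm (Fin n)} (h : IsConj a b) : FP k a = FP k b := by
  obtain ⟨c, rfl⟩ := isConj_iff.1 h
  unfold FP
  refine Finset.card_equiv c fun i => ?_
  simp only [Finset.mem_filter, Finset.mem_univ, true_and]
  rw [conj_pow, Perm.mul_apply, Perm.mul_apply, show c⁻¹ (c i) = i by simp]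
  exact c.injective.eq_iff.symm

theorem FP_pow (j k : ℕ) (g : Perm (Fin n)) : FP k (g ^ j) = FP (j * k) g := by
  unfold FP
  rw [← pow_mul]

theorem FP_inv (k : ℕ) (g : Perm (Fin n)) : FP k g⁻¹ = FP k g := by
  unfold FP
  congr 1
  ext i
  simp only [Finset.mem_filter, Finset.mem_univ, true_and]
  rw [inv_pow, Perm.inv_eq_iff_eq, eq_comm]

theorem comm_of_chk {g h : Perm (Fin n)} {P Q : ℕ} (hg : ∀ i : Fin n, (g i : ℕ) = lk P i)
    (hh : ∀ i : Fin n, (h i : ℕ) = lk Q i) (hc : chkComm n P Q = true) : g * h = h * g := by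
  ext i
  rw [Perm.mul_apply, Perm.mul_apply, hg, hh, hh, hg]
  exact Nat.eq_of_beq_eq_true ((allB_iff _ _).1 hc i i.2)

theorem inv_of_chk {g t : Perm (Fin n)} {P T : ℕ} (hg : ∀ i : Fin n, (g i : ℕ) = lk P i)
    (ht : ∀ i : Fin n, (t i : ℕ) = lk T i) (hc : chkInvert n P T = true) : g * t * g = t := by
  ext i
  rw [Perm.mul_apply, Perm.mul_apply, hg, ht, hg, ht]
  exact Nat.eq_of_beq_eq_true ((allB_iff _ _).1 hc i i.2)

theorem pow_of_chk {g : Perm (Fin n)} {P k : ℕ} (hg : ∀ i : Fin n, (g i : ℕ) = lk P i)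
    (hc : chkPow n P k = true) : g ^ k = 1 := by
  ext i
  rw [← it_eq hg]
  exact Nat.eq_of_beq_eq_true ((allB_iff _ _).1 hc i i.2)

/-- The centralizer bound from a chain certificate. -/
theorem card_cent_le {A P D b : ℕ} {L : List Stp} {g : Perm (Fin n)} (hg : ∀ i : Fin n, (g i : ℕ) = lk P i)
    (h : chk n A P D L 0 = true) (hb : bnd L = b) :
    Nat.card ↥(autG n A ⊓ centralizer ({g} : Set (Perm (Fin n)))) ≤ b := by
  rw [← hb]
  refine card_le_bnd (x := g) (X := P) hg L 0 _ inf_le_left (fun c hc => ?_) (fun c _ i => ?_) h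
  · exact mem_centralizer_singleton_iff.1 hc.2
  · simp [lk]

end Cfsg.Agent.H359.CT
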